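import Cfsg.Agent.H316.HT.Defs
import Cfsg.Agent.H133.PB.RegSum
import Cfsg.Agent.H646.RegInner

/-! S4933, P1: over a character of the principal block of a subgroup containing a Sylow `p`-subgroup there is a
member of the principal block of no larger `p`-part (helper362). -/

set_option autoImplicit false
set_option linter.style.haveILetI false
set_option maxRecDepth 2000

open Cfsg Subgroup
open Cfsg.Agent.Blocks.Basic Cfsg.Agent.Blocks.Local Cfsg.Agent.Blocks.Blau
open scoped ComplexConjugate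

namespace Cfsg.Agent.H362.HT

open Cfsg.Agent.H316.HT

universe u

variable {G : Type u} [Group G]

/-- the sum over the `p`-regular elements, divided by the degree, is the number of `p`-regular elements modulo `M` -/
theorem ratio [Fintype G] {p : ℕ} [hp : Fact p.Prime] {M : Ideal AlgInt} (hM : IsPModular p M)
    {θ : IrrCharacter G} (hθ : θ ∈ principalBlock M G) :
    MemLocalIdeal M ((∑ k : G with ¬ p ∣ orderOf k, (θ : G → ℂ) k) / (θ : G → ℂ) 1 -
      ((Nat.card {x : G // ¬ p ∣ orderOf x} : ℕ) : ℂ)) := by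
  classical
  have hMp : M.IsPrime := isPrime_of_isPModular hM
  have := Fintype.ofFinite (ConjClasses G)
  have h1 := Cfsg.Agent.H133.PB.sum_regular_eq p (irr_isClassFunction θ.2)
  rw [← Finset.sum_div] at h1
  have h2 := Cfsg.Agent.H133.PB.sum_regular_eq p (irr_isClassFunction (isIrrCharacter_one (G := G)))
  have h3 : MemLocalIdeal M (∑ c : ConjClasses G with ¬ p ∣ orderOf (rep c),
      (centralChar (fun _ : G => (1 : ℂ)) (rep c) - centralChar (θ : G → ℂ) (rep c))) :=
    memLocalIdeal_sum fun c _ => hθ (rep c)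
  rw [Finset.sum_sub_distrib, ← h1, ← h2] at h3
  have h4 : ∑ k : G with ¬ p ∣ orderOf k, (1 : ℂ) / (1 : ℂ) =
      ((Nat.card {x : G // ¬ p ∣ orderOf x} : ℕ) : ℂ) := by
    rw [Finset.sum_const, div_one, nsmul_eq_mul, mul_one, Nat.card_eq_fintype_card,
      Fintype.card_subtype]
  rw [h4] at h3
  exact memLocalIdeal_sub_comm h3

/-- the p-regular sums of the constituents add up -/
theorem sum_reg [Fintype G] [Fintype (IrrCharacter G)] {p : ℕ} (H : Subgroup G) [Fintype H] (ξ : IrrCharacter H) :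
    (H.index : ℂ) * ∑ k : H with ¬ p ∣ orderOf k, (ξ : H → ℂ) k =
      ∑ χ : IrrCharacter G, classInner (fun h : H => (χ : G → ℂ) h) (ξ : H → ℂ) *
        ∑ k : G with ¬ p ∣ orderOf k, (χ : G → ℂ) k := by
  classical
  set r : G → ℂ := fun g => if p ∣ orderOf g then 0 else 1 with hr
  have hcl : IsClassFunction G r := by
    intro g h
    rw [hr]
    simp only [Cfsg.Agent.H646.RegInner.orderOf_conj]
  have h1 := Characters.Core.classFunction_eq_sum hcl
  have hS : ∀ χ : IrrCharacter G, conj (classInner r (χ : G → ℂ)) =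
      (Nat.card G : ℂ)⁻¹ * ∑ k : G with ¬ p ∣ orderOf k, (χ : G → ℂ) k := by
    intro χ
    rw [Characters.Core.classInner_def, map_mul, map_inv₀, map_natCast, map_sum, Finset.sum_filter]
    congr 1
    apply Finset.sum_congr rfl
    intro g _
    rw [hr]
    by_cases h : p ∣ orderOf g <;> simp [h]
  have hSH : conj (classInner (fun h : H => r h) (ξ : H → ℂ)) =
      (Nat.card H : ℂ)⁻¹ * ∑ k : H with ¬ p ∣ orderOf k, (ξ : H → ℂ) k := by
    rw [Characters.Core.classInner_def, map_mul, map_inv₀, map_natCast, map_sum, Finset.sum_filter]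
    congr 1
    apply Finset.sum_congr rfl
    intro g _
    rw [hr]
    by_cases h : p ∣ orderOf g <;> simp [h]
  have h2 : classInner (fun h : H => r h) (ξ : H → ℂ) = ∑ χ : IrrCharacter G, classInner r (χ : G → ℂ) *
      classInner (fun h : H => (χ : G → ℂ) h) (ξ : H → ℂ) := by
    have h3 : (fun h : H => r h) = ∑ χ : IrrCharacter G, classInner r (χ : G → ℂ) • (fun h : H => (χ : G → ℂ) h) := by
      ext h
      have := congrFun h1 (h : G)
      rw [this]
      simp [Finset.sum_apply]
    rw [h3, Characters.Core.classInner_sum_left]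
    apply Finset.sum_congr rfl
    intro χ _
    rw [Characters.Core.classInner_smul_left]
  have hnat : ∀ χ : IrrCharacter G, conj (classInner (fun h : H => (χ : G → ℂ) h) (ξ : H → ℂ)) =
      classInner (fun h : H => (χ : G → ℂ) h) (ξ : H → ℂ) := by
    intro χ
    obtain ⟨n, hn⟩ := Characters.Core.classInner_isNat
      (Characters.Core.isCharacter_comp H.subtype (Characters.Core.isIrr_isCharacter χ.2))
      (Characters.Core.isIrr_isCharacter ξ.2)
    have hn' : classInner (fun h : H => (χ : G → ℂ) h) (ξ : H → ℂ) = n := hn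
    rw [hn', Complex.conj_natCast]
  have h4 := congrArg conj h2
  rw [hSH, map_sum] at h4
  simp only [map_mul, hS, hnat] at h4
  have hG : (Nat.card G : ℂ) ≠ 0 := by exact_mod_cast Nat.card_pos.ne'
  have hH : (Nat.card H : ℂ) ≠ 0 := by exact_mod_cast Nat.card_pos.ne'
  have hidx : (H.index : ℂ) = (Nat.card G : ℂ) * (Nat.card H : ℂ)⁻¹ := by
    rw [← H.card_mul_index]; push_cast; field_simp
  rw [hidx, mul_assoc, h4, Finset.mul_sum]
  apply Finset.sum_congr rfl
  intro χ _
  field_simp

theorem exists_over [Finite G] {p : ℕ} [hp : Fact p.Prime] {M : Ideal AlgInt} (hM : IsPModular p M) (P : Sylow p G)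
    (H : Subgroup G) (hPH : (P : Subgroup G) ≤ H)
    (ξ : IrrCharacter H) (hξ : ξ ∈ principalBlock M H) :
    ∃ χ : IrrCharacter G, χ ∈ principalBlock M G ∧ vd p (χ : G → ℂ) ≤ vd p (ξ : H → ℂ) ∧
      ∀ [Fintype H], classInner (fun h : H => (χ : G → ℂ) h) (ξ : H → ℂ) ≠ 0 := by
  classical
  haveI := Fintype.ofFinite G
  haveI iH : Fintype H := Fintype.ofFinite H
  haveI := Characters.Core.finite_irr (G := G)
  haveI := Fintype.ofFinite (IrrCharacter G)
  have hMp : M.IsPrime := isPrime_of_isPModular hM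
  have hinst : ∀ (i : Fintype H) (χ : G → ℂ), @classInner H _ i (fun h : H => χ h) (ξ : H → ℂ) =
      @classInner H _ iH (fun h : H => χ h) (ξ : H → ℂ) := by
    intro i χ
    rw [Subsingleton.elim i iH]
  by_contra hcon
  push Not at hcon
  have hbig : ∀ χ : IrrCharacter G, χ ∈ principalBlock M G →
      classInner (fun h : H => (χ : G → ℂ) h) (ξ : H → ℂ) ≠ 0 → p ^ (vd p (ξ : H → ℂ) + 1) ∣ charDegree (χ : G → ℂ) := by
    intro χ hχ hne
    have h1 : ¬ vd p (χ : G → ℂ) ≤ vd p (ξ : H → ℂ) := by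
      intro h
      obtain ⟨i, hi⟩ := hcon χ hχ h
      rw [hinst] at hi
      exact hne hi
    have h2 : vd p (ξ : H → ℂ) + 1 ≤ (charDegree (χ : G → ℂ)).factorization p := by
      have : vd p (ξ : H → ℂ) < vd p (χ : G → ℂ) := not_le.1 h1
      exact this
    exact (pow_dvd_pow p h2).trans (Nat.ordProj_dvd _ _)
  -- the sum for the characters outside the principal block vanishes
  have hzero : ∀ χ : IrrCharacter G, χ ∉ principalBlock M G → ∑ k : G with ¬ p ∣ orderOf k, (χ : G → ℂ) k = 0 := by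
    intro χ hχ
    have hB : IsPBlock M (principalBlock M G) := ⟨⟨fun _ => 1, isIrrCharacter_one⟩, rfl⟩
    have h1 : (⟨fun _ => 1, isIrrCharacter_one⟩ : IrrCharacter G) ∈ principalBlock M G := by
      intro g
      rw [sub_self]
      exact memLocalIdeal_zero
    have h2 := Cfsg.Agent.H646.RegInner.classInner_pRegularPart_eq_zero hM hB h1 hχ
    rw [Characters.Core.classInner_def, mul_eq_zero] at h2
    rcases h2 with h2 | h2
    · exact absurd (inv_eq_zero.1 h2) (by exact_mod_cast Nat.card_pos.ne')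
    · have h3 := congrArg conj h2
      rw [map_sum, map_zero] at h3
      rw [← h3, Finset.sum_filter]
      refine Finset.sum_congr rfl fun g _ => ?_
      rw [Cfsg.Agent.H646.RegInner.pRegularPart_apply]
      by_cases h : p ∣ orderOf g
      · rw [if_pos h, if_neg (not_not.2 h), zero_mul, map_zero]
      · rw [if_neg h, if_pos h, one_mul, Complex.conj_conj]
  set e := vd p (ξ : H → ℂ) with he
  have hmain := sum_reg (p := p) H ξ
  -- the right hand side is p ^ (e+1) times a local integer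
  have hR : ∃ z : ℂ, MemLocalRing M z ∧ ∑ χ : IrrCharacter G, classInner (fun h : H => (χ : G → ℂ) h) (ξ : H → ℂ) *
        ∑ k : G with ¬ p ∣ orderOf k, (χ : G → ℂ) k = ((p ^ (e + 1) : ℕ) : ℂ) * z := by
    have h1 : ∀ χ : IrrCharacter G, ∃ z : ℂ, MemLocalRing M z ∧
        classInner (fun h : H => (χ : G → ℂ) h) (ξ : H → ℂ) * ∑ k : G with ¬ p ∣ orderOf k, (χ : G → ℂ) k =
          ((p ^ (e + 1) : ℕ) : ℂ) * z := by
      intro χ
      by_cases hχ : χ ∈ principalBlock M G
      · by_cases hne : classInner (fun h : H => (χ : G → ℂ) h) (ξ : H → ℂ) = 0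
        · exact ⟨0, memLocalRing_zero, by rw [hne]; ring⟩
        · obtain ⟨q, hq⟩ := hbig χ hχ hne
          obtain ⟨n, hn⟩ := Characters.Core.classInner_isNat
            (Characters.Core.isCharacter_comp H.subtype (Characters.Core.isIrr_isCharacter χ.2))
            (Characters.Core.isIrr_isCharacter ξ.2)
          have hn' : classInner (fun h : H => (χ : G → ℂ) h) (ξ : H → ℂ) = n := hn
          have h2 := ratio hM hχ
          have h3 : MemLocalRing M ((∑ k : G with ¬ p ∣ orderOf k, (χ : G → ℂ) k) / (χ : G → ℂ) 1) :=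
            (memLocalRing_iff_of_sub h2).2 (memLocalRing_natCast _)
          refine ⟨(n : ℂ) * ((q : ℂ) * ((∑ k : G with ¬ p ∣ orderOf k, (χ : G → ℂ) k) / (χ : G → ℂ) 1)),
            memLocalRing_mul (memLocalRing_natCast _) (memLocalRing_mul (memLocalRing_natCast _) h3), ?_⟩
          rw [hn']
          have h4 : (χ : G → ℂ) 1 = ((p ^ (e + 1) : ℕ) : ℂ) * (q : ℂ) := by
            rw [irr_one_eq_charDegree χ.2, hq]; push_cast; ring
          have h5 : (χ : G → ℂ) 1 ≠ 0 := irr_one_ne_zero χ.2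
          have h6 : (∑ k : G with ¬ p ∣ orderOf k, (χ : G → ℂ) k) = ((p ^ (e + 1) : ℕ) : ℂ) * (q : ℂ) *
              ((∑ k : G with ¬ p ∣ orderOf k, (χ : G → ℂ) k) / (χ : G → ℂ) 1) := by
            rw [← h4]; field_simp
          calc (n : ℂ) * ∑ k : G with ¬ p ∣ orderOf k, (χ : G → ℂ) k
              = (n : ℂ) * (((p ^ (e + 1) : ℕ) : ℂ) * (q : ℂ) *
              ((∑ k : G with ¬ p ∣ orderOf k, (χ : G → ℂ) k) / (χ : G → ℂ) 1)) := by rw [← h6]
            _ = _ := by ring
      · exact ⟨0, memLocalRing_zero, by rw [hzero χ hχ]; ring⟩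
    choose f hf1 hf2 using h1
    refine ⟨∑ χ, f χ, memLocalRing_sum (fun χ _ => hf1 χ), ?_⟩
    rw [Finset.sum_congr rfl (fun χ _ => hf2 χ), ← Finset.mul_sum]
  obtain ⟨z, hz, hz2⟩ := hR
  -- the left hand side
  have hL := ratio hM hξ
  set t : ℂ := (∑ k : H with ¬ p ∣ orderOf k, (ξ : H → ℂ) k) / (ξ : H → ℂ) 1 with ht
  have htR : MemLocalRing M t := (memLocalRing_iff_of_sub hL).2 (memLocalRing_natCast _)
  have htn : ¬ MemLocalIdeal M t := by
    intro h
    have := (memLocalIdeal_iff_of_sub hL).1 h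
    rw [memLocalIdeal_natCast_iff hM] at this
    exact Cfsg.Agent.Blocks.RegularCount.not_dvd_card_regular this
  set n' := charDegree (ξ : H → ℂ) / p ^ e with hn'
  have hdeg : charDegree (ξ : H → ℂ) = p ^ e * n' := (Nat.ordProj_mul_ordCompl_eq_self _ _).symm
  have hn'p : ¬ p ∣ n' := Nat.not_dvd_ordCompl hp.out (charDegree_pos ξ.2).ne'
  have hξ1 : (ξ : H → ℂ) 1 ≠ 0 := irr_one_ne_zero ξ.2
  have hSt : ∑ k : H with ¬ p ∣ orderOf k, (ξ : H → ℂ) k = ((p ^ e : ℕ) : ℂ) * (n' : ℂ) * t := by
    have h1 : (ξ : H → ℂ) 1 = ((p ^ e : ℕ) : ℂ) * (n' : ℂ) := by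
      rw [irr_one_eq_charDegree ξ.2, hdeg]; push_cast; ring
    rw [ht, ← h1]; field_simp
  rw [hz2, hSt] at hmain
  have hpe : ((p ^ e : ℕ) : ℂ) ≠ 0 := by exact_mod_cast (pow_pos hp.out.pos e).ne'
  have h5 : (H.index : ℂ) * ((n' : ℂ) * t) = (p : ℂ) * z := by
    have : ((p ^ e : ℕ) : ℂ) * ((H.index : ℂ) * ((n' : ℂ) * t)) = ((p ^ e : ℕ) : ℂ) * ((p : ℂ) * z) := by
      rw [pow_succ] at hmain
      push_cast at hmain ⊢
      linear_combination hmain
    exact mul_left_cancel₀ hpe this
  have h6 : MemLocalIdeal M ((H.index : ℂ) * ((n' : ℂ) * t)) := by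
    rw [h5]; exact memLocalIdeal_mul_right (memLocalIdeal_p hM) hz
  have hidx : ¬ p ∣ H.index := fun h => P.not_dvd_index (h.trans (Subgroup.index_dvd_of_le hPH))
  rcases memLocalIdeal_or_of_mul (memLocalRing_natCast _) (memLocalRing_mul (memLocalRing_natCast _) htR) h6 with h7 | h7
  · exact hidx ((memLocalIdeal_natCast_iff hM _).1 h7)
  · rcases memLocalIdeal_or_of_mul (memLocalRing_natCast _) htR h7 with h8 | h8
    · exact hn'p ((memLocalIdeal_natCast_iff hM _).1 h8)
    · exact htn h8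

end Cfsg.Agent.H362.HT
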