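import Cfsg.Agent.H362.HT.Regular
import Cfsg.Prelude.Def_Blocks
import Cfsg.Agent.Characters.Core
import Cfsg.Agent.Blocks.Knorr

/-! S4933, case (i): from the regular orbit theorem and Ito-Michler to a character (helper362). -/

set_option autoImplicit false
set_option maxHeartbeats 1000000
set_option linter.style.haveILetI false

namespace Cfsg.Agent.H362.HT

open MulAction Pointwise Cfsg

universe u v

/-- Ito-Michler (S4760), as a hypothesis -/
def IM (p : ℕ) : Prop := ∀ (H : Type v) [Group H] [Finite H] (Q : Sylow p H),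
  (∀ χ : IrrCharacter H, ¬ p ∣ charDegree (χ : H → ℂ)) → (Q : Subgroup H).Normal

theorem exists_beta {G : Type u} {V : Type v} [Group G] [Finite G] [AddCommGroup V] [Finite V] [DistribMulAction G V] (p : ℕ)
    [hp : Fact p.Prime] {n : ℕ} (hV : Nat.card V = p ^ n)
    (hab : ∀ (Q : Sylow p G), ∀ x ∈ (Q : Subgroup G), ∀ y ∈ (Q : Subgroup G), ∀ v : V, (x * y) • v = (y * x) • v)
    (hfix : ∀ v : V, ∃ Q : Sylow p G, ∀ x ∈ (Q : Subgroup G), x • v = v) (a : ℕ)
    (horb : ∀ (Q : Sylow p G) (v : V), (∃ x ∈ (Q : Subgroup G), x • v ≠ v) →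
      (stabilizer G v).relIndex (Q : Subgroup G) = p ^ a)
    (Q1 : Sylow p G) (w : V) (hw : ∃ x ∈ (Q1 : Subgroup G), x • w ≠ w) (hIM0 : IM.{v} p) :
    ∃ χ : IrrCharacter G, p ∣ charDegree (χ : G → ℂ) ∧ (charDegree (χ : G → ℂ)).factorization p ≤ a ∧
      ∀ k : G, (∀ v : V, k • v = v) → (χ : G → ℂ) k = (χ : G → ℂ) 1 := by
  classical
  set f : G →* Equiv.Perm V := MulAction.toPermHom G V with hf
  set H : Subgroup (Equiv.Perm V) := f.range with hH
  set f' : G →* H := f.rangeRestrict with hf'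
  letI act : DistribMulAction H V :=
    { smul := fun h v => (h : Equiv.Perm V) v
      one_smul := fun v => rfl
      mul_smul := fun g h v => rfl
      smul_zero := by
        rintro ⟨_, g, rfl⟩
        exact smul_zero g
      smul_add := by
        rintro ⟨_, g, rfl⟩ x y
        exact smul_add g x y }
  have hsur : Function.Surjective f' := f.rangeRestrict_surjective
  haveI : Finite H := Finite.of_surjective f' hsur
  have hsm : ∀ (g : G) (v : V), (f' g) • v = g • v := fun g v => rfl
  have hSy : ∀ Q' : Sylow p H, ∃ Q : Sylow p G, (Q' : Subgroup H) = (Q : Subgroup G).map f' := by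
    intro Q'
    obtain ⟨Q, hQ⟩ := Sylow.mapSurjective_surjective hsur p Q'
    exact ⟨Q, by rw [← hQ]; rfl⟩
  have hstab : ∀ v : V, (stabilizer H v).comap f' = stabilizer G v := by
    intro v
    ext g
    rfl
  have hcardQ : ∀ Q Q' : Sylow p H, Nat.card (Q : Subgroup H) = Nat.card (Q' : Subgroup H) := fun Q Q' =>
    Nat.card_congr (Sylow.equiv Q Q').toEquiv
  have hrel : ∀ (Q' : Sylow p H) (v : V), (∃ x ∈ (Q' : Subgroup H), x • v ≠ v) →
      Nat.card ↥((Q' : Subgroup H) ⊓ stabilizer H v) * p ^ a = Nat.card (Q' : Subgroup H) := by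
    intro Q' v hv
    obtain ⟨Q, hQ⟩ := hSy Q'
    have h1 : ∃ x ∈ (Q : Subgroup G), x • v ≠ v := by
      obtain ⟨x, hx, hxv⟩ := hv
      rw [hQ] at hx
      obtain ⟨y, hy, rfl⟩ := hx
      exact ⟨y, hy, hxv⟩
    have h2 := horb Q v h1
    rw [← hstab, Subgroup.relIndex_comap, ← hQ] at h2
    rw [← h2, ← Subgroup.inf_relIndex_left]
    have h3 := Subgroup.relIndex_mul_relIndex (⊥ : Subgroup H) ((Q' : Subgroup H) ⊓ stabilizer H v) (Q' : Subgroup H)
      bot_le inf_le_left
    rw [Subgroup.relIndex_bot_left, Subgroup.relIndex_bot_left] at h3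
    exact h3
  obtain ⟨Q1', hQ1'⟩ : ∃ Q' : Sylow p H, (Q' : Subgroup H) = (Q1 : Subgroup G).map f' := ⟨Sylow.mapSurjective hsur Q1, rfl⟩
  have hw' : ∃ x ∈ (Q1' : Subgroup H), x • w ≠ w := by
    obtain ⟨x, hx, hxw⟩ := hw
    exact ⟨f' x, by rw [hQ1']; exact ⟨x, hx, rfl⟩, hxw⟩
  set c := Nat.card ↥((Q1' : Subgroup H) ⊓ stabilizer H w) with hc
  have hpa : 0 < p ^ a := pow_pos hp.out.pos a
  have hc1 : c = 1 := by
    refine regular (H := H) (V := V) p hV ?_ ?_ ?_ c ?_ Q1' w hw'
    · intro Q' x hx y hy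
      obtain ⟨Q, hQ⟩ := hSy Q'
      rw [hQ] at hx hy
      obtain ⟨x, hx, rfl⟩ := hx
      obtain ⟨y, hy, rfl⟩ := hy
      apply Subtype.ext
      apply Equiv.ext
      intro v
      have h := hab Q x hx y hy v
      rw [mul_smul, mul_smul] at h
      exact h
    · intro x hx
      apply Subtype.ext
      apply Equiv.ext
      intro v
      exact hx v
    · intro v
      obtain ⟨Q, hQ⟩ := hfix v
      refine ⟨Sylow.mapSurjective hsur Q, ?_⟩
      rintro _ ⟨x, hx, rfl⟩
      exact hQ x hx
    · intro Q' v hv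
      have h1 := hrel Q' v hv
      have h2 := hrel Q1' w hw'
      rw [hcardQ Q' Q1', ← h2] at h1
      exact Nat.eq_of_mul_eq_mul_right hpa h1
  have hcardH : Nat.card (Q1' : Subgroup H) = p ^ a := by
    have h2 := hrel Q1' w hw'
    rw [← hc, hc1, one_mul] at h2
    exact h2.symm
  -- the Sylow subgroup of H is not normal
  have hnn : ¬ (Q1' : Subgroup H).Normal := by
    intro hn
    haveI := hn
    obtain ⟨Q, hQ⟩ := hfix w
    have hu : Sylow.mapSurjective hsur Q = Q1' := by
      haveI : Subsingleton (Sylow p H) := by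
        rw [← not_nontrivial_iff_subsingleton]
        intro hnt
        haveI := Sylow.unique_of_normal Q1' hn
        exact not_subsingleton (Sylow p H) inferInstance
      exact Subsingleton.elim _ _
    obtain ⟨x, hx, hxw⟩ := hw'
    rw [← hu] at hx
    obtain ⟨y, hy, rfl⟩ := hx
    exact hxw (hQ y hy)
  have hIM : ¬ ∀ χ : IrrCharacter H, ¬ p ∣ charDegree (χ : H → ℂ) := by
    intro h
    exact hnn (hIM0 H Q1' h)
  push Not at hIM
  obtain ⟨β, hβ⟩ := hIM
  refine ⟨⟨(β : H → ℂ) ∘ f', Characters.Core.isIrr_comp f' hsur β.2⟩, ?_, ?_, ?_⟩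
  · have : charDegree ((β : H → ℂ) ∘ f') = charDegree (β : H → ℂ) := by
      unfold charDegree; simp
    show p ∣ charDegree ((β : H → ℂ) ∘ f')
    rw [this]; exact hβ
  · have : charDegree ((β : H → ℂ) ∘ f') = charDegree (β : H → ℂ) := by
      unfold charDegree; simp
    show (charDegree ((β : H → ℂ) ∘ f')).factorization p ≤ a
    rw [this]
    have h1 := Blocks.Knorr.charDegree_dvd β.2
    have h2 : (charDegree (β : H → ℂ)).factorization p ≤ (Nat.card H).factorization p :=
      (Nat.factorization_le_iff_dvd (fun h => by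
        rw [h] at h1; exact Nat.card_pos.ne' (zero_dvd_iff.1 h1)) Nat.card_pos.ne').2 h1 p
    have h3 := Q1'.card_eq_multiplicity
    rw [hcardH] at h3
    have h4 := Nat.pow_right_injective hp.out.two_le h3
    omega
  · intro k hk
    show (β : H → ℂ) (f' k) = (β : H → ℂ) (f' 1)
    have : f' k = f' 1 := by
      apply Subtype.ext
      apply Equiv.ext
      intro v
      show k • v = (1 : G) • v
      rw [hk v, one_smul]
    rw [this]

end Cfsg.Agent.H362.HT
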