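import Cfsg.Agent.H362.HT.CaseAbOf
import Cfsg.Agent.S4760

/-! S4933, case (i) (P2): a normal abelian `p`-subgroup `N` with `P / N` abelian (helper362). -/

set_option autoImplicit false

namespace Cfsg.Agent.H362.HT

open Cfsg Cfsg.Agent.H316.HT

universe u

theorem caseAb {G : Type u} [Group G] [Finite G] {p : ℕ} [hp : Fact p.Prime] {M : Ideal AlgInt}
    (hM : IsPModular p M) (P : Sylow p G) (a : ℕ) (ha : 0 < a) (hcd : CD p a (P : Subgroup G))
    (N : Subgroup G) [N.Normal] (hN : IsPGroup p N) (hab : ∀ x ∈ N, ∀ y ∈ N, x * y = y * x)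
    (hPN : ∀ x ∈ (P : Subgroup G), ∀ y ∈ (P : Subgroup G), x * y * x⁻¹ * y⁻¹ ∈ N) : Good p a M G :=
  caseAb_of hM P a ha hcd N hN hab hPN fun _H _ _ Q h => ((Cfsg.Agent.S4760.result p Q).2 h).1

end Cfsg.Agent.H362.HT
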