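import Cfsg.Agent.H362.HT.Dual
import Cfsg.Agent.H362.HT.Beta
import Cfsg.Agent.H362.HT.Over
import Cfsg.Agent.H319.PQ.Red2
import Cfsg.Agent.H633.Principal
import Cfsg.Agent.Characters.CCBasic

/-! S4933, case (i): a normal abelian `p`-subgroup `N` with `P / N` abelian (helper362). -/

set_option autoImplicit false
set_option maxHeartbeats 1000000
set_option linter.style.haveILetI false

namespace Cfsg.Agent.H362.HT

open MulAction Pointwise Cfsg Cfsg.Agent.H672 Cfsg.Agent.Characters.Core Cfsg.Agent.H316.HT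

universe u

variable {G : Type u} [Group G] [Finite G] {p : ℕ} [hp : Fact p.Prime] {M : Ideal AlgInt}

/-- the `p'`-core of a `p`-group -/
theorem core_eq_bot {Q : Type u} [Group Q] [Finite Q] (hQ : IsPGroup p Q) : pPrimeCore p Q = ⊥ := by
  rw [pPrimeCore, sSup_eq_bot]
  rintro K ⟨-, hK⟩
  have h1 : IsPGroup p K := hQ.to_subgroup K
  obtain ⟨n, hn⟩ := IsPGroup.iff_card.1 h1
  rw [hn] at hK
  rcases Nat.eq_zero_or_pos n with h0 | h0
  · rw [h0, pow_zero] at hn
    exact Subgroup.card_eq_one.1 hn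
  · exfalso
    have h2 := Nat.Coprime.eq_one_of_dvd (hK.symm) (dvd_pow_self p h0.ne')
    exact hp.out.one_lt.ne' h2

/-- every irreducible character of a `p`-group is in the principal block -/
theorem mem_of_isPGroup (hM : IsPModular p M) {Q : Type u} [Group Q] [Finite Q] (hQ : IsPGroup p Q)
    (θ : IrrCharacter Q) : θ ∈ principalBlock M Q := by
  haveI : Group.IsNilpotent Q := hQ.isNilpotent
  haveI : Group.IsSolvable Q := inferInstance
  rw [Cfsg.Agent.H633.Principal.mem_principalBlock_iff_of_pSolvable hM (Lib.PSolvable.IsPSolvable_of_solvable p)]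
  intro n hn
  rw [core_eq_bot hQ, Subgroup.mem_bot] at hn
  rw [hn]

/-- an irreducible character is over itself -/
theorem over_self {H : Type u} [Group H] [Finite H] {N : Type u} [Group N] [Finite N] (f : N →* H) (l : H →* ℂˣ) :
    Over f (lf l) (lf (l.comp f)) := by
  classical
  letI := Fintype.ofFinite N
  rw [over_iff]
  have h1 : lf l ∘ f = lf (l.comp f) := rfl
  rw [h1, classInner_irr_self (isIrr_lf _)]
  exact one_ne_zero

/-- **K4** -/
theorem exists_ext (hM : IsPModular p M) (P : Sylow p G) (a : ℕ) (ha : 0 < a) (hcd : CD p a (P : Subgroup G))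
    (N : Subgroup G) [N.Normal] (hNP : N ≤ (P : Subgroup G)) (hng : ¬ Good p a M G) (μ : Dl N) :
    ∃ g : G, Ext N (P : Subgroup G) (g • μ) := by
  classical
  letI := Fintype.ofFinite G
  letI := Fintype.ofFinite N
  obtain ⟨θ, hθ, ho⟩ := exists_over_hom (Subgroup.inclusion hNP) (Subgroup.inclusion_injective hNP) (isIrr_lf μ.hom)
  rcases hcd.1 ⟨θ, hθ⟩ with h1 | h1
  · obtain ⟨l, hl⟩ := exists_hom_of_degree_one hθ h1
    refine ⟨1, ?_⟩
    rw [one_smul]
    refine ⟨l, fun n hn => ?_⟩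
    have h2 := eq_of_over_of_charDegree_eq hθ (isIrr_lf μ.hom) ho (by rw [charDegree_lf]; exact h1.symm)
    have h3 := congrFun h2 n
    rw [hl] at h3
    exact Units.val_inj.1 h3
  · obtain ⟨χ, hχB, hχv, hχo⟩ := Cfsg.Agent.H362.HT.exists_over hM P (P : Subgroup G) le_rfl ⟨θ, hθ⟩
      (mem_of_isPGroup hM P.isPGroup' _)
    have hv : vd p θ = a := by
      unfold vd
      have h1' : charDegree θ = p ^ a := h1
      rw [h1', hp.out.factorization_pow, Finsupp.single_eq_same]
    have hv0 : vd p (χ : G → ℂ) = 0 := by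
      by_contra h0
      exact hng ⟨χ, hχB, Nat.pos_of_ne_zero h0, by
        have h2 : vd p (χ : G → ℂ) ≤ vd p θ := hχv
        rw [hv] at h2
        exact h2⟩
    have hnd : ¬ p ∣ charDegree (χ : G → ℂ) := by
      intro hd
      have := hp.out.factorization_pos_of_dvd (charDegree_pos χ.2).ne' hd
      unfold vd at hv0
      omega
    obtain ⟨lam, hlam, hlo, hld⟩ := exists_under_not_dvd (P : Subgroup G).subtype χ.2 hnd
    have hl1 : charDegree lam = 1 := by
      rcases hcd.1 ⟨lam, hlam⟩ with h | h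
      · exact h
      · exact absurd (by rw [show charDegree lam = p ^ a from h]; exact dvd_pow_self p ha.ne') hld
    obtain ⟨l, rfl⟩ := exists_hom_of_degree_one hlam hl1
    have hc : (P : Subgroup G).subtype.comp (Subgroup.inclusion hNP) = N.subtype := rfl
    have h2 : Over N.subtype (χ : G → ℂ) (lf μ.hom) := by
      rw [← hc, over_comp_iff _ _ (isIrr_isCharacter χ.2) (isIrr_lf _)]
      refine ⟨θ, hθ, ?_, ho⟩
      letI := Fintype.ofFinite (P : Subgroup G)
      rw [over_subtype_iff]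
      exact hχo
    have h3 : Over N.subtype (χ : G → ℂ) (lf (l.comp (Subgroup.inclusion hNP))) := by
      rw [← hc, over_comp_iff _ _ (isIrr_isCharacter χ.2) (isIrr_lf _)]
      exact ⟨lf l, hlam, hlo, over_self _ _⟩
    rw [over_subtype_iff] at h2 h3
    obtain ⟨g, hg⟩ := Characters.Clifford.exists_conj_of_constituents N χ.2 (isIrr_lf _) (isIrr_lf _) h2 h3
    refine ⟨g⁻¹, l, fun n hn => ?_⟩
    have h4 := congrFun hg n
    have h5 := Units.val_inj.1 h4
    rw [Dl.smul_hom, inv_inv]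
    exact h5

/-- **K5** -/
theorem exists_sylow_ext (hM : IsPModular p M) (P : Sylow p G) (a : ℕ) (ha : 0 < a) (hcd : CD p a (P : Subgroup G))
    (N : Subgroup G) [hNn : N.Normal] (hNP : N ≤ (P : Subgroup G)) (hng : ¬ Good p a M G) (μ : Dl N) :
    ∃ Q : Sylow p G, Ext N (Q : Subgroup G) μ := by
  obtain ⟨g, hg⟩ := exists_ext hM P a ha hcd N hNP hng μ
  refine ⟨g⁻¹ • P, ?_⟩
  have h1 := hg.conj hNP g⁻¹ ((g⁻¹ • P : Sylow p G) : Subgroup G) (fun x hx => by
    rw [mem_smul] at hx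
    exact hx)
  rw [inv_smul_smul] at h1
  exact h1

/-- a normal `p`-subgroup is in all Sylow subgroups -/
theorem le_sylow (N : Subgroup G) [hNn : N.Normal] (hN : IsPGroup p N) (Q : Sylow p G) : N ≤ (Q : Subgroup G) := by
  intro x hx
  obtain ⟨Q', hQ'⟩ := hN.exists_le_sylow
  obtain ⟨g, rfl⟩ := MulAction.exists_smul_eq G Q Q'
  have h1 := hQ' (hNn.conj_mem x hx g)
  rw [mem_smul] at h1
  have h2 : g⁻¹ * (g * x * g⁻¹) * g = x := by group
  rwa [h2] at h1

/-- the degrees of any Sylow subgroup -/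
theorem cd_sylow (P : Sylow p G) (a : ℕ) (hcd : CD p a (P : Subgroup G)) (Q : Sylow p G) {φ : Q → ℂ}
    (hφ : IsIrrCharacter Q φ) : charDegree φ = 1 ∨ charDegree φ = p ^ a := by
  have e : P ≃* Q := Sylow.equiv P Q
  have h1 : IsIrrCharacter P (φ ∘ e) := isIrr_comp (e : P →* Q) e.surjective hφ
  have h2 : charDegree (φ ∘ e) = charDegree φ := by
    unfold charDegree
    simp
  have h3 := hcd.1 ⟨φ ∘ e, h1⟩
  have h4 : charDegree (φ ∘ e) = 1 ∨ charDegree (φ ∘ e) = p ^ a := h3
  rwa [h2] at h4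

/-- the length of the orbits -/
theorem relIndex_eq (P : Sylow p G) (a : ℕ) (hcd : CD p a (P : Subgroup G)) (N : Subgroup G) [hNn : N.Normal]
    (hN : IsPGroup p N) (Q : Sylow p G) (μ : Dl N)
    (hext : ∃ Q : Sylow p G, Ext N (Q : Subgroup G) μ) (hm : ∃ x ∈ (Q : Subgroup G), x • μ ≠ μ) :
    (stabilizer G μ).relIndex (Q : Subgroup G) = p ^ a := by
  classical
  have hNQ := le_sylow N hN Q
  obtain ⟨Q0, hQ0⟩ := hext
  set R : Subgroup G := (Q : Subgroup G) ⊓ stabilizer G μ with hR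
  have hRp : IsPGroup p R := Q.isPGroup'.to_le inf_le_left
  obtain ⟨ν, hν⟩ := ext_of_le Q0 (le_sylow N hN Q0) hQ0 R hRp inf_le_right
  have hNs : N ≤ stabilizer G μ := (le_sylow N hN Q0).trans (hQ0.le_stab (le_sylow N hN Q0))
  set T : Subgroup Q := (stabilizer G μ).subgroupOf (Q : Subgroup G) with hT
  set N' : Subgroup Q := N.subgroupOf (Q : Subgroup G) with hN'
  haveI : N'.Normal := inferInstance
  set l : N' →* ℂˣ := μ.hom.comp (Subgroup.subgroupOfEquivOfLe hNQ).toMonoidHom with hl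
  have hlv : ∀ n : N', l n = μ.hom ⟨n, n.2⟩ := fun n => rfl
  have hTi : T = inertia N' (lf l) := by
    ext x
    rw [mem_inertia_lf, hT, Subgroup.mem_subgroupOf, Dl.mem_stab]
    constructor
    · intro h n
      exact h ⟨n, n.2⟩
    · intro h n
      exact h ⟨⟨n, hNQ n.2⟩, n.2⟩
  have hNT : N' ≤ T := fun x hx => hNs hx
  let j : T →* R :=
    { toFun := fun t => ⟨(t : Q), (t : Q).2, t.2⟩
      map_one' := rfl
      map_mul' := fun _ _ => rfl }
  obtain ⟨χ, hχ, -, hχd⟩ := exists_irr_index N' l T hTi hNT (ν.comp j) (fun n => hν ⟨n, n.2⟩ _)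
  rcases cd_sylow P a hcd Q hχ with h | h
  · exfalso
    rw [hχd, Subgroup.index_eq_one] at h
    obtain ⟨x, hx, hxm⟩ := hm
    have h1 : (⟨x, hx⟩ : Q) ∈ T := by rw [h]; trivial
    exact hxm (mem_stabilizer_iff.1 h1)
  · rw [hχd] at h
    exact h

/-- **case (i)** from the theorem of Ito and Michler -/
theorem caseAb_of (hM : IsPModular p M) (P : Sylow p G) (a : ℕ) (ha : 0 < a) (hcd : CD p a (P : Subgroup G))
    (N : Subgroup G) [N.Normal] (hN : IsPGroup p N) (hab : ∀ x ∈ N, ∀ y ∈ N, x * y = y * x)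
    (hPN : ∀ x ∈ (P : Subgroup G), ∀ y ∈ (P : Subgroup G), x * y * x⁻¹ * y⁻¹ ∈ N) (hIM : IM.{u} p) : Good p a M G := by
  classical
  by_contra hng
  have hNP := le_sylow N hN P
  have hext : ∀ μ : Dl N, ∃ Q : Sylow p G, Ext N (Q : Subgroup G) μ := fun μ =>
    exists_sylow_ext hM P a ha hcd N hNP hng μ
  have hfix : ∀ μ : Dl N, ∃ Q : Sylow p G, ∀ x ∈ (Q : Subgroup G), x • μ = μ := by
    intro μ
    obtain ⟨Q, hQ⟩ := hext μ
    exact ⟨Q, fun x hx => mem_stabilizer_iff.1 (hQ.le_stab (le_sylow N hN Q) hx)⟩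
  have hNtriv : ∀ n ∈ N, ∀ μ : Dl N, n • μ = μ := by
    intro n hn μ
    rw [← mem_stabilizer_iff, Dl.mem_stab]
    intro m
    congr 1
    apply Subtype.ext
    rw [MulAut.conjNormal_apply, hab n hn m m.2, mul_inv_cancel_right]
  have hcomm : ∀ (Q : Sylow p G), ∀ x ∈ (Q : Subgroup G), ∀ y ∈ (Q : Subgroup G), x * y * x⁻¹ * y⁻¹ ∈ N := by
    intro Q x hx y hy
    obtain ⟨g, rfl⟩ := MulAction.exists_smul_eq G P Q
    rw [mem_smul] at hx hy
    have h1 := hPN _ hx _ hy
    have h2 := (inferInstance : N.Normal).conj_mem _ h1 g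
    convert h2 using 1
    group
  have hquot : ∀ (Q : Sylow p G), ∀ x ∈ (Q : Subgroup G), ∀ y ∈ (Q : Subgroup G), ∀ μ : Dl N,
      (x * y) • μ = (y * x) • μ := by
    intro Q x hx y hy μ
    have h1 : x * y = (x * y * x⁻¹ * y⁻¹) * (y * x) := by group
    rw [h1, mul_smul, hNtriv _ (hcomm Q x hx y hy)]
  -- not all linear characters are fixed by `P`
  have hmov : ∃ μ : Dl N, ∃ x ∈ (P : Subgroup G), x • μ ≠ μ := by
    by_contra hcon
    push Not at hcon
    have hPab : ∀ x y : P, x * y = y * x := by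
      intro x y
      have h1 : (⟨(x : G) * y * (x : G)⁻¹ * (y : G)⁻¹, hPN x x.2 y y.2⟩ : N) = 1 := by
        refine eq_one_of_forall (fun s t => Subtype.ext (hab s s.2 t t.2)) fun l => ?_
        obtain ⟨Q, hQ⟩ := hext (Dl.of l)
        obtain ⟨ν, hν⟩ := ext_of_le Q (le_sylow N hN Q) hQ (P : Subgroup G) P.isPGroup' (fun z hz => by
          rw [mem_stabilizer_iff]
          exact hcon _ z hz)
        have h2 := hν ⟨(x : G) * y * (x : G)⁻¹ * (y : G)⁻¹, hPN x x.2 y y.2⟩ (hNP (hPN x x.2 y y.2))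
        rw [Dl.hom_of] at h2
        rw [← h2]
        have h3 : (⟨(x : G) * y * (x : G)⁻¹ * (y : G)⁻¹, hNP (hPN x x.2 y y.2)⟩ : P) = x * y * x⁻¹ * y⁻¹ := rfl
        rw [h3, map_mul, map_mul, map_mul, map_inv, map_inv, mul_right_comm (ν x), mul_inv_cancel, one_mul,
          mul_inv_cancel]
      have h4 : (x : G) * y * (x : G)⁻¹ * (y : G)⁻¹ = 1 := congrArg Subtype.val h1
      apply Subtype.ext
      show (x : G) * y = y * x
      rw [mul_inv_eq_one, mul_inv_eq_iff_eq_mul] at h4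
      exact h4
    obtain ⟨φ, hφ⟩ := hcd.2
    have h1 := Characters.CCBasic.irr_apply_one_of_comm hPab φ.2
    have h2 : charDegree (φ : P → ℂ) = 1 := charDegree_of_eq (by rw [h1]; simp)
    rw [h2] at hφ
    exact (Nat.one_lt_pow ha.ne' hp.out.one_lt).ne hφ
  obtain ⟨w, hw⟩ := hmov
  haveI := Dl.finite N hab
  obtain ⟨n, hn⟩ := IsPGroup.iff_card.1 hN
  obtain ⟨χ, hχp, hχa, hχk⟩ := exists_beta (G := G) (V := Dl N) p (by rw [Dl.card N hab]; exact hn) hquot hfix a
    (fun Q v hv => relIndex_eq P a hcd N hN Q v (hext v) hv) P w hw hIM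
  -- the kernel of the action
  set K : Subgroup G := (MulAction.toPermHom G (Dl N)).ker with hK
  have hKm : ∀ k : G, k ∈ K ↔ ∀ μ : Dl N, k • μ = μ := by
    intro k
    rw [hK, MonoidHom.mem_ker]
    constructor
    · intro h μ
      exact congrArg (fun e : Equiv.Perm (Dl N) => e μ) h
    · intro h
      exact Equiv.ext h
  have hNK : N ≤ K := fun x hx => (hKm x).2 (hNtriv x hx)
  have hCK : Subgroup.centralizer (N : Set G) ≤ K := by
    intro x hx
    rw [hKm]
    intro μ
    rw [← mem_stabilizer_iff, Dl.mem_stab]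
    intro m
    congr 1
    apply Subtype.ext
    rw [MulAut.conjNormal_apply, ← Subgroup.mem_centralizer_iff.1 hx m m.2, mul_inv_cancel_right]
  obtain ⟨U⟩ : Nonempty (Sylow p K) := inferInstance
  have hNU : N ≤ (U : Subgroup K).map K.subtype := by
    have h1 : N.subgroupOf K ≤ (U : Subgroup K) := by
      refine le_sylow (N.subgroupOf K) ?_ U
      exact hN.comap_of_injective K.subtype K.subtype_injective
    intro x hx
    exact ⟨⟨x, hNK hx⟩, h1 (by rw [Subgroup.mem_subgroupOf]; exact hx), rfl⟩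
  have hχB : χ ∈ principalBlock M G := by
    refine Cfsg.Agent.H319.PQ.Red2.mem_of_le_chKer hM K U ?_ fun k hk => hχk k ((hKm k).1 hk)
    exact (Subgroup.centralizer_le hNU).trans hCK
  exact hng ⟨χ, hχB, hp.out.factorization_pos_of_dvd (charDegree_pos χ.2).ne' hχp, hχa⟩

end Cfsg.Agent.H362.HT
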