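import Mathlib

/-! S4933, case (i): the elementary theorem on actions of groups in which every vector is fixed by a Sylow
`p`-subgroup and all nontrivial orbits of a Sylow `p`-subgroup have the same length (helper362). -/

set_option autoImplicit false
set_option maxHeartbeats 1000000

namespace Cfsg.Agent.H362.HT

open MulAction Pointwise

theorem exists_dec {X : Type*} [Group X] [Finite X] (p : ℕ) [hp : Fact p.Prime] (g : X) :
    ∃ x s : X, g = x * s ∧ (∃ k : ℕ, x ^ p ^ k = 1) ∧ (∃ m : ℕ, ¬ p ∣ m ∧ s ^ m = 1) ∧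
      x ∈ Subgroup.zpowers g ∧ s ∈ Subgroup.zpowers g := by
  obtain ⟨k, m, hm, hn⟩ := Nat.exists_eq_pow_mul_and_not_dvd (n := orderOf g) (orderOf_pos g).ne' p
    hp.out.ne_one
  have hc : IsCoprime ((p : ℤ) ^ k) (m : ℤ) := by
    have : Nat.Coprime (p ^ k) m := Nat.Coprime.pow_left k ((Nat.Prime.coprime_iff_not_dvd hp.out).2 hm)
    exact_mod_cast Nat.isCoprime_iff_coprime.2 this
  obtain ⟨a, b, hab⟩ := hc
  have hg : g ^ ((p ^ k * m : ℕ) : ℤ) = 1 := by
    rw [zpow_natCast, ← hn, pow_orderOf_eq_one]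
  refine ⟨g ^ (b * (m : ℤ)), g ^ (a * (p : ℤ) ^ k), ?_, ⟨k, ?_⟩, ⟨m, hm, ?_⟩, ⟨_, rfl⟩, ⟨_, rfl⟩⟩
  · rw [← zpow_add, show b * (m : ℤ) + a * (p : ℤ) ^ k = 1 by linarith, zpow_one]
  · rw [← zpow_natCast, ← zpow_mul, show b * (m : ℤ) * ((p ^ k : ℕ) : ℤ) = ((p ^ k * m : ℕ) : ℤ) * b by
      push_cast; ring, zpow_mul, hg, one_zpow]
  · rw [← zpow_natCast, ← zpow_mul, show a * (p : ℤ) ^ k * (m : ℤ) = ((p ^ k * m : ℕ) : ℤ) * a by
      push_cast; ring, zpow_mul, hg, one_zpow]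

section
variable {X V : Type*} [Group X] [AddCommGroup V] [DistribMulAction X V]

/-- the fixed points of a subgroup -/
def W (Q : Subgroup X) : AddSubgroup V where
  carrier := {v | ∀ x ∈ Q, x • v = v}
  zero_mem' := fun x _ => smul_zero x
  add_mem' := fun {a b} ha hb x hx => by rw [smul_add, ha x hx, hb x hx]
  neg_mem' := fun {a} ha x hx => by rw [smul_neg, ha x hx]

theorem mem_W {Q : Subgroup X} {v : V} : v ∈ (W Q : AddSubgroup V) ↔ ∀ x ∈ Q, x • v = v := Iff.rfl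

theorem W_anti {Q R : Subgroup X} (h : Q ≤ R) : (W R : AddSubgroup V) ≤ W Q :=
  fun _ hv x hx => hv x (h hx)

end

end Cfsg.Agent.H362.HT
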