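import Cfsg.Agent.H362.HT.Core

set_option autoImplicit false
set_option maxHeartbeats 1000000
set_option linter.unusedSectionVars false
set_option linter.style.haveILetI false

namespace Cfsg.Agent.H362.HT

open MulAction Pointwise

variable {X V : Type*} [Group X] [Finite X] [AddCommGroup V] [Finite V] [DistribMulAction X V] {p : ℕ}
  [hp : Fact p.Prime]

structure Cfg (p : ℕ) (V : Type*) [AddCommGroup V] {X : Type*} [Group X] [DistribMulAction X V] (B : Subgroup X) : Prop where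
  cen : ∀ b ∈ B, ∀ g : X, b * g = g * b
  pgr : IsPGroup p B
  orb : ∀ (Q : Sylow p X) (v : V), (∃ x ∈ (Q : Subgroup X), x • v ≠ v) →
    Nat.card ↥((Q : Subgroup X) ⊓ stabilizer X v) = Nat.card B
  cov : ∀ u : V, (∀ x ∈ B, x • u = u) → ∃ Q : Sylow p X, ∀ x ∈ (Q : Subgroup X), x • u = u
  gen : ∀ u : V, (∀ Q : Sylow p X, ∀ x ∈ (Q : Subgroup X), x • u = u) → ∀ g : X, g • u = u

variable {B : Subgroup X}

theorem Cfg.normal (h : Cfg p V B) : B.Normal :=
  ⟨fun b hb g => by rw [← h.cen b hb g, mul_assoc, mul_inv_cancel, mul_one]; exact hb⟩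

theorem sup_pgroup (h : Cfg p V B) {P : Subgroup X} (hP : IsPGroup p P) : IsPGroup p ↥(B ⊔ P) := by
  haveI := h.normal
  exact IsPGroup.to_sup_of_normal_left h.pgr hP

theorem Cfg.le (h : Cfg p V B) (Q : Sylow p X) : B ≤ (Q : Subgroup X) := by
  have h1 := sup_pgroup h Q.isPGroup'
  have h2 : (Q : Subgroup X) ≤ B ⊔ (Q : Subgroup X) := le_sup_right
  have h3 := Q.is_maximal' h1 h2
  rw [← h3]; exact le_sup_left

theorem card_lt_of {A : Subgroup X} {R : Subgroup X} (hA : B ≤ R) (hA2 : A ≤ R) (hc : Nat.card A = Nat.card B)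
    (hne : A ≠ B) : Nat.card B < Nat.card R := by
  have h1 : Nat.card B ≤ Nat.card R := Nat.card_le_card_of_injective _ (Subgroup.inclusion_injective hA)
  rcases h1.lt_or_eq with h | h
  · exact h
  · exfalso
    have e1 : B = R := Subgroup.eq_of_le_of_card_ge hA h.ge
    have e2 : A = R := Subgroup.eq_of_le_of_card_ge hA2 (by rw [hc, h])
    exact hne (e2.trans e1.symm)

/-- F2 -/
theorem Cfg.W_le (h : Cfg p V B) {R : Subgroup X} (Q : Sylow p X) (hR : R ≤ Q) (hlt : Nat.card B < Nat.card R) :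
    (W R : AddSubgroup V) ≤ W (Q : Subgroup X) := by
  intro v hv
  by_contra hn
  have h1 : ∃ x ∈ (Q : Subgroup X), x • v ≠ v := by
    by_contra hc; push Not at hc; exact hn hc
  have h2 := h.orb Q v h1
  have h3 : R ≤ (Q : Subgroup X) ⊓ stabilizer X v := le_inf hR (fun x hx => hv x hx)
  have h4 := Nat.card_le_card_of_injective _ (Subgroup.inclusion_injective h3)
  omega

theorem Cfg.W_eq (h : Cfg p V B) {R : Subgroup X} (Q : Sylow p X) (hR : R ≤ Q) (hlt : Nat.card B < Nat.card R) :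
    (W R : AddSubgroup V) = W (Q : Subgroup X) :=
  le_antisymm (h.W_le Q hR hlt) (W_anti hR)

theorem mem_smul (Q : Sylow p X) (g x : X) :
    x ∈ ((g • Q : Sylow p X) : Subgroup X) ↔ g⁻¹ * x * g ∈ (Q : Subgroup X) := by
  rw [Sylow.coe_subgroup_smul]
  rw [Subgroup.mem_pointwise_smul_iff_inv_smul_mem]
  rw [← map_inv, MulAut.smul_def, MulAut.conj_apply, inv_inv]

theorem mem_W_smul (Q : Sylow p X) (g : X) (v : V) :
    v ∈ (W ((g • Q : Sylow p X) : Subgroup X) : AddSubgroup V) ↔ g⁻¹ • v ∈ (W (Q : Subgroup X) : AddSubgroup V) := by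
  constructor
  · intro hv x hx
    have h1 := hv (g * x * g⁻¹) ((mem_smul Q g _).2 (by
      rw [show g⁻¹ * (g * x * g⁻¹) * g = x by group]; exact hx))
    rw [mul_smul, mul_smul] at h1
    have h2 := congrArg (fun t => g⁻¹ • t) h1
    simpa [inv_smul_smul] using h2
  · intro hv x hx
    have h1 := hv _ ((mem_smul Q g x).1 hx)
    rw [mul_smul, mul_smul, smul_inv_smul] at h1
    have h2 := congrArg (fun t => g • t) h1
    simpa [smul_inv_smul] using h2

/-- F3 -/
theorem Cfg.card_stab (h : Cfg p V B) {v : V} (hv : v ∉ (W B : AddSubgroup V)) (Q : Sylow p X) :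
    Nat.card ↥((Q : Subgroup X) ⊓ stabilizer X v) = Nat.card B := by
  apply h.orb Q v
  by_contra hc
  push Not at hc
  exact hv (fun x hx => hc x (h.le Q hx))

theorem Cfg.le_card (h : Cfg p V B) {v : V} (hv : v ∉ (W B : AddSubgroup V)) {P : Subgroup X}
    (hP : IsPGroup p P) (hPv : P ≤ stabilizer X v) : Nat.card P ≤ Nat.card B := by
  obtain ⟨Q, hQ⟩ := (sup_pgroup h hP).exists_le_sylow
  have h1 := h.card_stab hv Q
  have h2 : P ≤ (Q : Subgroup X) ⊓ stabilizer X v := le_inf (le_trans le_sup_right hQ) hPv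
  have h3 := Nat.card_le_card_of_injective _ (Subgroup.inclusion_injective h2)
  omega

theorem Cfg.conj_stab (h : Cfg p V B) {v : V} (hv : v ∉ (W B : AddSubgroup V)) (Q Q' : Sylow p X) :
    ∃ g : X, g • v = v ∧ ∀ x, x ∈ (Q : Subgroup X) → x • v = v → g * x * g⁻¹ ∈ (Q' : Subgroup X) ∧
      (g * x * g⁻¹) • v = v := by
  classical
  set S := stabilizer X v with hS
  have key : ∀ R : Sylow p X, ∃ T : Sylow p S, (T : Subgroup S) = (R : Subgroup X).subgroupOf S := by
    intro R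
    have hR : IsPGroup p ↥((R : Subgroup X).subgroupOf S) := R.isPGroup'.comap_subtype
    obtain ⟨T, hT⟩ := hR.exists_le_sylow
    refine ⟨T, ?_⟩
    symm
    apply Subgroup.eq_of_le_of_card_ge hT
    have h1 : IsPGroup p ↥((T : Subgroup S).map S.subtype) := T.isPGroup'.map _
    have h2 := h.le_card hv h1 (by rintro _ ⟨x, _, rfl⟩; exact x.2)
    have h3 : Nat.card ↥((T : Subgroup S).map S.subtype) = Nat.card (T : Subgroup S) :=
      Nat.card_congr ((T : Subgroup S).equivMapOfInjective _ S.subtype_injective).symm.toEquiv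
    have h4 : Nat.card ↥((R : Subgroup X).subgroupOf S) = Nat.card B := by
      rw [← h.card_stab hv R]
      have : ((R : Subgroup X).subgroupOf S).map S.subtype = (R : Subgroup X) ⊓ S := by
        rw [Subgroup.subgroupOf_map_subtype]
      rw [← this]
      exact Nat.card_congr (((R : Subgroup X).subgroupOf S).equivMapOfInjective _ S.subtype_injective).toEquiv
    rw [h4, ← h3]
    exact h2
  obtain ⟨T, hT⟩ := key Q
  obtain ⟨T', hT'⟩ := key Q'
  obtain ⟨g, hg⟩ := MulAction.exists_smul_eq S T T'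
  refine ⟨g, g.2, fun x hx hxv => ?_⟩
  have h1 : (⟨x, hxv⟩ : S) ∈ (T : Subgroup S) := by
    rw [hT]; exact hx
  have h2 : g * ⟨x, hxv⟩ * g⁻¹ ∈ (T' : Subgroup S) := by
    rw [← hg]
    rw [mem_smul]
    rw [show g⁻¹ * (g * ⟨x, hxv⟩ * g⁻¹) * g = (⟨x, hxv⟩ : S) by group]
    exact h1
  rw [hT'] at h2
  exact ⟨h2, (g * (⟨x, hxv⟩ : S) * g⁻¹).2⟩

/-- F4 -/
theorem Cfg.trans (h : Cfg p V B) {v : V} (hv : v ∉ (W B : AddSubgroup V)) (Q Q' : Sylow p X) :
    ∃ g : X, g • v = v ∧ (W ((g • Q : Sylow p X) : Subgroup X) : AddSubgroup V) = W (Q' : Subgroup X) := by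
  obtain ⟨g, hgv, hg⟩ := h.conj_stab hv Q Q'
  refine ⟨g, hgv, ?_⟩
  -- R = B ⊔ Q'_v
  set A := (Q' : Subgroup X) ⊓ stabilizer X v with hA
  have hAc : Nat.card A = Nat.card B := h.card_stab hv Q'
  have hAB : A ≠ B := by
    intro he
    apply hv
    intro x hx
    have : x ∈ A := he ▸ hx
    exact this.2
  have hlt : Nat.card B < Nat.card ↥(B ⊔ A) := card_lt_of le_sup_left le_sup_right hAc hAB
  -- the conjugate of Q_v is all of A
  have hAle : A ≤ ((g • Q : Sylow p X) : Subgroup X) := by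
    have h1 : ((Q : Subgroup X) ⊓ stabilizer X v).map (MulAut.conj g).toMonoidHom ≤ A := by
      rintro _ ⟨x, hx, rfl⟩
      exact ⟨(hg x hx.1 hx.2).1, (hg x hx.1 hx.2).2⟩
    have h2 : Nat.card ↥(((Q : Subgroup X) ⊓ stabilizer X v).map (MulAut.conj g).toMonoidHom) = Nat.card B := by
      rw [← h.card_stab hv Q]
      exact Nat.card_congr (Subgroup.equivMapOfInjective _ _ (MulAut.conj g).injective).symm.toEquiv
    have h3 := Subgroup.eq_of_le_of_card_ge h1 (by rw [h2, hAc])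
    intro x hx
    rw [← h3] at hx
    obtain ⟨y, hy, rfl⟩ := hx
    rw [mem_smul]
    simp only [MulEquiv.coe_toMonoidHom, MulAut.conj_apply]
    rw [show g⁻¹ * (g * y * g⁻¹) * g = y by group]
    exact hy.1
  have e1 := h.W_eq (g • Q) (sup_le (h.le _) hAle) hlt
  have e2 := h.W_eq Q' (sup_le (h.le _) inf_le_left) hlt
  exact e1.symm.trans e2

end Cfsg.Agent.H362.HT
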