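import Cfsg.Agent.H672.Ext
import Cfsg.Agent.H362.HT.Trans

/-! S4933, case (i): the linear characters of an abelian normal subgroup as a module, extension to the `p`-subgroups
of the stabilizers, the lengths of the orbits (helper362). -/

set_option autoImplicit false
set_option linter.style.haveILetI false

namespace Cfsg.Agent.H362.HT

open MulAction Pointwise Cfsg Cfsg.Agent.H672 Cfsg.Agent.Characters.Core

universe u v w

variable {G : Type u} [Group G]

/-- the linear characters of `N`, written additively -/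
def Dl (N : Subgroup G) : Type u := Additive (N →* ℂˣ)

noncomputable instance (N : Subgroup G) : AddCommGroup (Dl N) := inferInstanceAs (AddCommGroup (Additive (N →* ℂˣ)))

/-- the linear character -/
def Dl.hom {N : Subgroup G} (v : Dl N) : N →* ℂˣ := Additive.toMul v

/-- the element of the module -/
def Dl.of {N : Subgroup G} (l : N →* ℂˣ) : Dl N := Additive.ofMul l

theorem Dl.ext {N : Subgroup G} {v w : Dl N} (h : ∀ n, v.hom n = w.hom n) : v = w :=
  Additive.toMul.injective (MonoidHom.ext h)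

@[simp] theorem Dl.hom_of {N : Subgroup G} (l : N →* ℂˣ) : (Dl.of l).hom = l := rfl

theorem Dl.hom_add {N : Subgroup G} (v w : Dl N) (n : N) : (v + w).hom n = v.hom n * w.hom n := rfl

theorem Dl.hom_zero {N : Subgroup G} (n : N) : (0 : Dl N).hom n = 1 := rfl

noncomputable instance (N : Subgroup G) [N.Normal] : DistribMulAction G (Dl N) where
  smul g v := Dl.of (v.hom.comp (MulAut.conjNormal g⁻¹ : MulAut N).toMonoidHom)
  one_smul v := by
    apply Dl.ext
    intro n
    show v.hom (MulAut.conjNormal (1 : G)⁻¹ n) = v.hom n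
    rw [inv_one, map_one]
    rfl
  mul_smul g h v := by
    apply Dl.ext
    intro n
    show v.hom (MulAut.conjNormal (g * h)⁻¹ n) = v.hom (MulAut.conjNormal h⁻¹ (MulAut.conjNormal g⁻¹ n))
    rw [mul_inv_rev, map_mul]
    rfl
  smul_zero g := by
    apply Dl.ext
    intro n
    rfl
  smul_add g v w := by
    apply Dl.ext
    intro n
    rfl

theorem Dl.smul_hom {N : Subgroup G} [N.Normal] (g : G) (v : Dl N) (n : N) :
    (g • v).hom n = v.hom (MulAut.conjNormal g⁻¹ n) := rfl

theorem Dl.mem_stab {N : Subgroup G} [N.Normal] {g : G} {v : Dl N} :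
    g ∈ stabilizer G v ↔ ∀ n, v.hom (MulAut.conjNormal g n) = v.hom n := by
  rw [mem_stabilizer_iff]
  constructor
  · intro h n
    conv_lhs => rw [← h]
    rw [Dl.smul_hom, ← MulAut.mul_apply, ← map_mul, inv_mul_cancel, map_one, MulAut.one_apply]
  · intro h
    apply Dl.ext
    intro n
    rw [Dl.smul_hom, ← h (MulAut.conjNormal g⁻¹ n), ← MulAut.mul_apply, ← map_mul, mul_inv_cancel, map_one,
      MulAut.one_apply]

theorem Dl.card (N : Subgroup G) [Finite G] (hab : ∀ x ∈ N, ∀ y ∈ N, x * y = y * x) :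
    Nat.card (Dl N) = Nat.card N := by
  have h1 : Nat.card (Dl N) = Nat.card (N →* ℂˣ) := rfl
  rw [h1, Characters.Linear.card_hom_eq_index_commutator]
  have h2 : commutator N = ⊥ := by
    rw [commutator_eq_bot_iff_center_eq_top, eq_top_iff]
    intro x _
    rw [Subgroup.mem_center_iff]
    intro y
    exact Subtype.ext (hab y y.2 x x.2)
  rw [h2, Subgroup.index_bot]

theorem Dl.finite (N : Subgroup G) [Finite G] (hab : ∀ x ∈ N, ∀ y ∈ N, x * y = y * x) : Finite (Dl N) := by
  apply Nat.finite_of_card_ne_zero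
  rw [Dl.card N hab]
  exact Nat.card_pos.ne'

/-- the linear characters of an abelian group separate the elements -/
theorem eq_one_of_forall {N : Type w} [Group N] [Finite N] (hab : ∀ x y : N, x * y = y * x) {x : N}
    (h : ∀ l : N →* ℂˣ, l x = 1) : x = 1 := by
  letI : CommGroup N := { (inferInstance : Group N) with mul_comm := hab }
  by_contra hx
  obtain ⟨φ, hφ⟩ := CommGroup.exists_apply_ne_one_of_hasEnoughRootsOfUnity N ℂ hx
  exact hφ (h φ)

/-- over a character of a subgroup (embedded by `f`) -/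
theorem exists_over_hom {K : Type w} [Group K] [Finite K] {H : Type v} [Group H] [Finite H] (f : H →* K)
    (hf : Function.Injective f) {θ : H → ℂ} (hθ : IsIrrCharacter H θ) :
    ∃ χ : K → ℂ, IsIrrCharacter K χ ∧ Over f χ θ := by
  let e : H ≃* f.range := MonoidHom.ofInjective hf
  have hθ' : IsIrrCharacter f.range (θ ∘ e.symm) :=
    isIrr_comp (e.symm : f.range →* H) e.symm.surjective hθ
  obtain ⟨χ, hχ, h⟩ := exists_over_subtype f.range hθ'
  refine ⟨χ, hχ, ?_⟩
  rw [← over_comp_equiv f.range.subtype e] at h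
  have e1 : f.range.subtype.comp e.toMonoidHom = f := by ext; rfl
  have e2 : (θ ∘ e.symm) ∘ e = θ := by funext x; simp
  rw [e1, e2] at h
  exact h

/-- a linear character of `R` extending `v` -/
def Ext (N R : Subgroup G) (v : Dl N) : Prop :=
  ∃ ν : R →* ℂˣ, ∀ (n : N) (h : (n : G) ∈ R), ν ⟨n, h⟩ = v.hom n

theorem Ext.mono {N R R' : Subgroup G} {v : Dl N} (h : Ext N R v) (hR : R' ≤ R) : Ext N R' v := by
  obtain ⟨ν, hν⟩ := h
  exact ⟨ν.comp (Subgroup.inclusion hR), fun n hn => hν n (hR hn)⟩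

theorem Ext.le_stab {N R : Subgroup G} [hN : N.Normal] {v : Dl N} (h : Ext N R v) (hNR : N ≤ R) :
    R ≤ stabilizer G v := by
  obtain ⟨ν, hν⟩ := h
  intro r hr
  rw [Dl.mem_stab]
  intro n
  have h1 := hν n (hNR n.2)
  have h2 := hν (MulAut.conjNormal r n) (hNR (MulAut.conjNormal r n).2)
  rw [← h1, ← h2]
  have h3 : (⟨((MulAut.conjNormal r n : N) : G), hNR (MulAut.conjNormal r n).2⟩ : R) =
      ⟨r, hr⟩ * ⟨n, hNR n.2⟩ * (⟨r, hr⟩ : R)⁻¹ := by
    apply Subtype.ext
    simp [MulAut.conjNormal_apply]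
  rw [h3, map_mul, map_mul, map_inv, mul_comm (ν _) (ν _), mul_assoc, mul_inv_cancel, mul_one]

/-- the conjugate of an extension -/
theorem Ext.conj {N R : Subgroup G} [hN : N.Normal] {v : Dl N} (h : Ext N R v) (hNR : N ≤ R) (g : G)
    (R' : Subgroup G) (hR' : ∀ x ∈ R', g⁻¹ * x * g ∈ R) : Ext N R' (g • v) := by
  obtain ⟨ν, hν⟩ := h
  refine ⟨ν.comp { toFun := fun x => ⟨g⁻¹ * x * g, hR' x x.2⟩, map_one' := ?_, map_mul' := ?_ }, ?_⟩
  · apply Subtype.ext
    simp
  · intro x y
    apply Subtype.ext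
    simp only [Subgroup.coe_mul]
    group
  · intro n hn
    rw [Dl.smul_hom, ← hν _ (hNR (MulAut.conjNormal g⁻¹ n).2)]
    show ν _ = ν _
    congr 1
    apply Subtype.ext
    simp

/-- **extension to the `p`-subgroups of the stabilizer** -/
theorem ext_of_le [Finite G] {p : ℕ} [Fact p.Prime] {N : Subgroup G} [hN : N.Normal] {v : Dl N} (Q : Sylow p G)
    (hNQ : N ≤ (Q : Subgroup G)) (h : Ext N (Q : Subgroup G) v) (R : Subgroup G) (hR : IsPGroup p R)
    (hRv : R ≤ stabilizer G v) : Ext N R v := by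
  set T := stabilizer G v with hT
  have hQT : (Q : Subgroup G) ≤ T := h.le_stab hNQ
  have hR' : IsPGroup p (R.subgroupOf T) := hR.comap_of_injective T.subtype T.subtype_injective
  obtain ⟨S, hS⟩ := hR'.exists_le_sylow
  obtain ⟨t, ht⟩ := MulAction.exists_smul_eq T (Q.subtype hQT) S
  have h1 : Ext N R ((t : G) • v) := by
    refine h.conj hNQ t R fun x hx => ?_
    have h2 : (⟨x, hRv hx⟩ : T) ∈ (S : Subgroup T) := hS (by rw [Subgroup.mem_subgroupOf]; exact hx)
    rw [← ht, mem_smul] at h2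
    exact h2
  have h3 : (t : G) • v = v := mem_stabilizer_iff.1 t.2
  rw [h3] at h1
  exact h1

end Cfsg.Agent.H362.HT
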