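import Cfsg.Agent.H362.HT.Trans

set_option autoImplicit false
set_option maxHeartbeats 1000000
set_option linter.unusedSectionVars false
set_option linter.style.haveILetI false

namespace Cfsg.Agent.H362.HT

open MulAction Pointwise

variable {X V : Type*} [Group X] [Finite X] [AddCommGroup V] [Finite V] [DistribMulAction X V] {p : ℕ}
  [hp : Fact p.Prime] {B : Subgroup X}

theorem card_W (Q Q' : Sylow p X) :
    Nat.card ↥(W (Q : Subgroup X) : AddSubgroup V) = Nat.card ↥(W (Q' : Subgroup X) : AddSubgroup V) := by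
  obtain ⟨g, rfl⟩ := MulAction.exists_smul_eq X Q Q'
  apply Nat.card_congr
  apply Equiv.subtypeEquiv (MulAction.toPerm g)
  intro v
  rw [mem_W_smul Q g]
  simp [MulAction.toPerm_apply]

theorem smul_W (Q : Sylow p X) (g : X) :
    g • (W (Q : Subgroup X) : AddSubgroup V) = W ((g • Q : Sylow p X) : Subgroup X) := by
  ext v
  rw [mem_W_smul, AddSubgroup.mem_pointwise_smul_iff_inv_smul_mem]

/-- F5a: a `p`-element stabilising `W Q` fixes it pointwise. -/
theorem fix_of_stab (Q : Sylow p X) {x : X} {k : ℕ} (hx : x ^ p ^ k = 1)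
    (hs : x • (W (Q : Subgroup X) : AddSubgroup V) = W (Q : Subgroup X)) :
    ∀ u ∈ (W (Q : Subgroup X) : AddSubgroup V), x • u = u := by
  classical
  set N := stabilizer X (W (Q : Subgroup X) : AddSubgroup V) with hN
  set Y : Subgroup X := fixingSubgroup X ((W (Q : Subgroup X) : AddSubgroup V) : Set V) with hY
  have hYmem : ∀ g : X, g ∈ Y ↔ ∀ u ∈ (W (Q : Subgroup X) : AddSubgroup V), g • u = u := by
    intro g
    rw [hY, mem_fixingSubgroup_iff]
    rfl
  have hst : ∀ g : X, g ∈ N → ∀ u ∈ (W (Q : Subgroup X) : AddSubgroup V), g • u ∈ (W (Q : Subgroup X) : AddSubgroup V) := by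
    intro g hg u hu
    have : g • u ∈ g • (W (Q : Subgroup X) : AddSubgroup V) := AddSubgroup.smul_mem_pointwise_smul _ _ _ hu
    rwa [show g • (W (Q : Subgroup X) : AddSubgroup V) = W (Q : Subgroup X) from hg] at this
  have hQY : (Q : Subgroup X) ≤ Y := fun g hg => (hYmem g).2 (fun u hu => hu g hg)
  have hYN : Y ≤ N := by
    intro g hg
    show g • (W (Q : Subgroup X) : AddSubgroup V) = W (Q : Subgroup X)
    ext u
    rw [AddSubgroup.mem_pointwise_smul_iff_inv_smul_mem]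
    constructor
    · intro h
      have := (hYmem g).1 hg _ h
      rw [smul_inv_smul] at this
      rw [this]; exact h
    · intro h
      have := (hYmem g⁻¹).1 (inv_mem hg) _ h
      rw [this]; exact h
  haveI hn : (Y.subgroupOf N).Normal := by
    constructor
    rintro ⟨y, hyN⟩ hy ⟨n, hn⟩
    show n * y * n⁻¹ ∈ Y
    rw [hYmem]
    intro u hu
    have h1 : n⁻¹ • u ∈ (W (Q : Subgroup X) : AddSubgroup V) := hst _ (inv_mem hn) u hu
    have h2 := (hYmem y).1 hy _ h1
    rw [mul_smul, mul_smul, h2, smul_inv_smul]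
  have hd : (Y.subgroupOf N).index ∣ (Q : Subgroup X).index := by
    have h1 := Subgroup.relIndex_mul_index hYN
    exact (Dvd.intro _ h1).trans (Subgroup.index_dvd_of_le hQY)
  have hpd : ¬ p ∣ (Y.subgroupOf N).index := fun h => Q.not_dvd_index (h.trans hd)
  have h3 := Subgroup.pow_index_mem (Y.subgroupOf N) (⟨x, hs⟩ : N)
  have h4 : x ^ (Y.subgroupOf N).index ∈ Y := h3
  have hc : IsCoprime (((p ^ k : ℕ)) : ℤ) (((Y.subgroupOf N).index : ℕ) : ℤ) :=
    Nat.isCoprime_iff_coprime.2 (Nat.Coprime.pow_left k ((Nat.Prime.coprime_iff_not_dvd hp.out).2 hpd))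
  obtain ⟨a, b, hab⟩ := hc
  have h5 : x = (x ^ p ^ k) ^ a * (x ^ (Y.subgroupOf N).index) ^ b := by
    rw [← zpow_natCast x (p ^ k), ← zpow_natCast x ((Y.subgroupOf N).index), ← zpow_mul, ← zpow_mul, ← zpow_add,
      show ((p ^ k : ℕ) : ℤ) * a + (((Y.subgroupOf N).index : ℕ) : ℤ) * b = 1 by linarith, zpow_one]
  have h6 : x ∈ Y := by
    rw [h5, hx, one_zpow, one_mul]
    exact Subgroup.zpow_mem _ h4 b
  exact (hYmem x).1 h6

/-- F5b -/
theorem Cfg.eq_of_fix (h : Cfg p V B) {x : X} {k : ℕ} (hx : x ^ p ^ k = 1) (hxB : x ∉ B) :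
    ∃ Q0 : Sylow p X, x ∈ (Q0 : Subgroup X) ∧ ∀ Q : Sylow p X,
      x • (W (Q : Subgroup X) : AddSubgroup V) = W (Q : Subgroup X) →
      (W (Q : Subgroup X) : AddSubgroup V) = W (Q0 : Subgroup X) := by
  have hz : IsPGroup p ↥(Subgroup.zpowers x) := by
    rintro ⟨y, i, rfl⟩
    refine ⟨k, Subtype.ext ?_⟩
    show (x ^ i) ^ p ^ k = 1
    rw [← zpow_natCast, ← zpow_mul, mul_comm, zpow_mul, zpow_natCast, hx, one_zpow]
  obtain ⟨Q0, hQ0⟩ := (sup_pgroup h hz).exists_le_sylow
  have hxQ0 : x ∈ (Q0 : Subgroup X) := hQ0 (Subgroup.mem_sup_right (Subgroup.mem_zpowers x))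
  refine ⟨Q0, hxQ0, fun Q hQ => ?_⟩
  have h1 := fix_of_stab Q hx hQ
  have h2 : (W (Q : Subgroup X) : AddSubgroup V) ≤ W (B ⊔ Subgroup.zpowers x) := by
    intro u hu
    have hle : B ⊔ Subgroup.zpowers x ≤ stabilizer X u := by
      apply sup_le
      · intro b hb; exact hu b (h.le Q hb)
      · rw [Subgroup.zpowers_le]; exact h1 u hu
    exact fun y hy => hle hy
  have hlt : Nat.card B < Nat.card ↥(B ⊔ Subgroup.zpowers x) := by
    have h3 : Nat.card B ≤ Nat.card ↥(B ⊔ Subgroup.zpowers x) :=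
      Nat.card_le_card_of_injective _ (Subgroup.inclusion_injective (le_sup_left : B ≤ B ⊔ Subgroup.zpowers x))
    rcases h3.lt_or_eq with h4 | h4
    · exact h4
    · exfalso
      have e := Subgroup.eq_of_le_of_card_ge (le_sup_left : B ≤ B ⊔ Subgroup.zpowers x) h4.ge
      apply hxB
      rw [e]
      exact Subgroup.mem_sup_right (Subgroup.mem_zpowers x)
  have h5 := h.W_eq (V := V) Q0 hQ0 hlt
  rw [h5] at h2
  exact AddSubgroup.eq_of_le_of_card_ge h2 (card_W Q0 Q).le

end Cfsg.Agent.H362.HT
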