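import Cfsg.Agent.H362.HT.Reg

set_option autoImplicit false
set_option maxHeartbeats 1000000
set_option linter.unusedSectionVars false
set_option linter.style.haveILetI false

namespace Cfsg.Agent.H362.HT

open MulAction Pointwise

variable {X V : Type*} [Group X] [Finite X] [AddCommGroup V] [Finite V] [DistribMulAction X V] {p : ℕ}
  [hp : Fact p.Prime] {B : Subgroup X}

/-- existence of a vector outside `C_V(B)` with `[v,B] ≤ C_V(B)` -/
theorem Cfg.exists_v (h : Cfg p V B) {n : ℕ} (hV : Nat.card V = p ^ n) (hB : ∃ x ∈ B, ∃ v : V, x • v ≠ v) :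
    ∃ v : V, v ∉ (W B : AddSubgroup V) ∧ ∀ b ∈ B, b • v - v ∈ (W B : AddSubgroup V) := by
  classical
  have hst : ∀ b ∈ B, ∀ u ∈ (W B : AddSubgroup V), b • u ∈ (W B : AddSubgroup V) := by
    intro b hb u hu
    rw [hu b hb]; exact hu
  let f : B → (V ⧸ (W B : AddSubgroup V)) →+ (V ⧸ (W B : AddSubgroup V)) := fun b =>
    QuotientAddGroup.map _ _ (DistribSMul.toAddMonoidHom V (b : X)) (fun u hu => hst b b.2 u hu)
  have hf : ∀ (b : B) (z : V), f b (z : V ⧸ (W B : AddSubgroup V)) = (((b : X) • z : V) : V ⧸ (W B : AddSubgroup V)) :=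
    fun b z => rfl
  letI act : MulAction B (V ⧸ (W B : AddSubgroup V)) :=
    { smul := fun b q => f b q
      one_smul := by
        intro q
        induction q using QuotientAddGroup.induction_on with
        | H z => 
          show f 1 z = z
          rw [hf, Subgroup.coe_one, one_smul]
      mul_smul := by
        intro a b q
        induction q using QuotientAddGroup.induction_on with
        | H z => 
          show f (a * b) z = f a (f b z)
          rw [hf, hf, hf, Subgroup.coe_mul, mul_smul] }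
  have hdef : ∀ (b : B) (q : V ⧸ (W B : AddSubgroup V)), b • q = f b q := fun _ _ => rfl
  haveI : Finite (V ⧸ (W B : AddSubgroup V)) := Quotient.finite _
  have hdvd : p ∣ Nat.card (V ⧸ (W B : AddSubgroup V)) := by
    have h1 : Nat.card (V ⧸ (W B : AddSubgroup V)) ∣ p ^ n := by
      rw [← hV]; exact AddSubgroup.card_quotient_dvd_card _
    obtain ⟨j, _, hj⟩ := (Nat.dvd_prime_pow hp.out).1 h1
    rcases Nat.eq_zero_or_pos j with hj0 | hj0
    · exfalso
      rw [hj0, pow_zero] at hj
      have h2 : (W B : AddSubgroup V) = ⊤ := by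
        rw [← AddSubgroup.index_eq_one]; exact hj
      obtain ⟨x, hx, v, hv⟩ := hB
      have h3 : v ∈ (W B : AddSubgroup V) := by rw [h2]; trivial
      exact hv (h3 x hx)
    · rw [hj]; exact dvd_pow_self p hj0.ne'
  have h0 : (0 : V ⧸ (W B : AddSubgroup V)) ∈ fixedPoints B (V ⧸ (W B : AddSubgroup V)) := by
    intro b
    rw [hdef, map_zero]
  obtain ⟨q, hq, hne⟩ := h.pgr.exists_fixed_point_of_prime_dvd_card_of_fixed_point _ hdvd h0
  induction q using QuotientAddGroup.induction_on with
  | H z =>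
    refine ⟨z, ?_, ?_⟩
    · intro hz
      exact hne ((QuotientAddGroup.eq_zero_iff z).2 hz).symm
    · intro b hb
      have h1 := hq ⟨b, hb⟩
      rw [hdef, hf] at h1
      rw [sub_eq_neg_add]
      exact QuotientAddGroup.eq.1 h1.symm

theorem Cfg.absurd (h : Cfg p V B) {n : ℕ} (hV : Nat.card V = p ^ n) (hB : ∃ x ∈ B, ∃ v : V, x • v ≠ v)
    (Q1 : Sylow p X) {w : V} (hw : w ∈ (W B : AddSubgroup V)) (hw1 : w ∉ (W (Q1 : Subgroup X) : AddSubgroup V)) :
    False := by
  classical
  haveI := Fintype.ofFinite X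
  haveI := Fintype.ofFinite V
  haveI : Fintype B := Fintype.ofFinite _
  haveI : Nonempty (orbit X (W (Q1 : Subgroup X) : AddSubgroup V)) := ⟨⟨_, W_orbit Q1 Q1⟩⟩
  obtain ⟨v, hv, hvB⟩ := h.exists_v hV hB
  -- transitivity of the stabilizers of vectors outside U
  have htr : ∀ e : V, e ∉ (W B : AddSubgroup V) → ∀ a b : orbit X (W (Q1 : Subgroup X) : AddSubgroup V),
      ∃ g : X, g • e = e ∧ g • a = b := by
    intro e he a b
    obtain ⟨Q, hQ⟩ := orbit_W Q1 a
    obtain ⟨Q', hQ'⟩ := orbit_W Q1 b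
    obtain ⟨g, hg, hg2⟩ := h.trans he Q Q'
    refine ⟨g, hg, Subtype.ext ?_⟩
    show g • (a : AddSubgroup V) = b
    rw [hQ, hQ', smul_W, hg2]
  have hI : ∀ b ∈ B, ∀ g : X, g • (b • v - v) = b • v - v := by
    intro b hb
    apply h.gen
    intro Q'
    obtain ⟨Q, hQ⟩ := h.cov (b • v - v) (hvB b hb)
    obtain ⟨g, hg, hg2⟩ := h.trans hv Q Q'
    have h1 : g • (b • v - v) = b • v - v := by
      rw [smul_sub, smul_smul, ← h.cen b hb g, mul_smul, hg]
    have h2 : b • v - v ∈ (W ((g • Q : Sylow p X) : Subgroup X) : AddSubgroup V) := by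
      rw [mem_W_smul]
      have h3 := congrArg (fun t => g⁻¹ • t) h1
      simp only [inv_smul_smul] at h3
      rw [← h3]
      exact hQ
    rw [hg2] at h2
    exact h2
  have hcos : ∀ g : X, g • v - v ∈ (W B : AddSubgroup V) := by
    intro g b hb
    have h1 := hI b hb g
    rw [smul_sub, smul_smul, ← h.cen b hb g, mul_smul] at h1
    rw [smul_sub]
    rw [sub_eq_sub_iff_sub_eq_sub]
    exact h1
  set E : Finset V := Finset.univ.filter (fun e => e - v ∈ (W B : AddSubgroup V)) with hE
  set U : Finset V := Finset.univ.filter (fun e => e ∈ (W B : AddSubgroup V)) with hU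
  set fE : X → ℤ := fun g => (Nat.card {e : V // e ∈ E ∧ g • e = e} : ℤ) with hfE
  set fU : X → ℤ := fun g => (Nat.card {e : V // e ∈ U ∧ g • e = e} : ℤ) with hfU
  set F : X → ℤ := fun g => Fm (orbit X (W (Q1 : Subgroup X) : AddSubgroup V)) g with hF
  have hEn : ∀ e ∈ E, e ∉ (W B : AddSubgroup V) := by
    intro e he he2
    rw [hE, Finset.mem_filter] at he
    apply hv
    have := sub_mem he2 he.2
    rwa [sub_sub_cancel] at this
  have s1 : ∑ g : X, fE g * F g = 0 := by
    have := sum_Tm (X := X) (Ω := orbit X (W (Q1 : Subgroup X) : AddSubgroup V)) E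
    rw [finsum_eq_sum_of_fintype] at this
    rw [← this]
    apply Finset.sum_eq_zero
    intro e he
    exact Tm_zero_of e (htr e (hEn e he))
  have s2 : ∑ g : X, fU g * F g = ∑ e ∈ U, Tm (X := X) (orbit X (W (Q1 : Subgroup X) : AddSubgroup V)) e := by
    have := sum_Tm (X := X) (Ω := orbit X (W (Q1 : Subgroup X) : AddSubgroup V)) U
    rw [finsum_eq_sum_of_fintype] at this
    exact this.symm
  -- fixed point numbers
  have hmemE : ∀ e, e ∈ E ↔ e - v ∈ (W B : AddSubgroup V) := by intro e; simp [hE]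
  have hmemU : ∀ e, e ∈ U ↔ e ∈ (W B : AddSubgroup V) := by intro e; simp [hU]
  obtain ⟨j, hj⟩ := (IsPGroup.iff_card.1 h.pgr)
  have hfix : ∀ (b s : X) (m : ℕ), b ∈ B → ¬ p ∣ m → s ^ m = 1 → ∀ e : V, (b * s) • e = e → s • e = e ∧ b • e = e := by
    intro b s m hb hm hs e he
    have hcomm : Commute b s := h.cen b hb s
    have h1 : (b * s) ^ (p ^ j) • e = e := by
      have : b * s ∈ stabilizer X e := he
      exact Subgroup.pow_mem _ this _
    rw [hcomm.mul_pow] at h1
    have h2 : b ^ (p ^ j) = 1 := by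
      have := pow_card_eq_one' (x := (⟨b, hb⟩ : B))
      rw [hj] at this
      exact congrArg Subtype.val this
    rw [h2, one_mul] at h1
    have hc : IsCoprime (((p ^ j : ℕ)) : ℤ) ((m : ℕ) : ℤ) :=
      Nat.isCoprime_iff_coprime.2 (Nat.Coprime.pow_left j ((Nat.Prime.coprime_iff_not_dvd hp.out).2 hm))
    obtain ⟨a, c, hac⟩ := hc
    have h3 : s = (s ^ p ^ j) ^ a := by
      have h4 : s = (s ^ p ^ j) ^ a * (s ^ m) ^ c := by
        rw [← zpow_natCast s (p ^ j), ← zpow_natCast s m, ← zpow_mul, ← zpow_mul, ← zpow_add,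
          show ((p ^ j : ℕ) : ℤ) * a + (m : ℤ) * c = 1 by linarith, zpow_one]
      rw [hs, one_zpow, mul_one] at h4
      exact h4
    have h5 : s • e = e := by
      have h6 : s ^ p ^ j ∈ stabilizer X e := h1
      have h7 : (s ^ p ^ j) ^ a ∈ stabilizer X e := Subgroup.zpow_mem _ h6 a
      rw [← h3] at h7
      exact h7
    refine ⟨h5, ?_⟩
    rw [mul_smul, h5] at he
    exact he
  have hbE : ∀ b ∈ B, ∀ e, e - v ∈ (W B : AddSubgroup V) → (b • e = e ↔ b • v = v) := by
    intro b hb e he
    have h1 := he b hb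
    rw [smul_sub] at h1
    constructor
    · intro h2
      rw [h2] at h1
      exact sub_right_injective h1
    · intro h2
      rw [h2] at h1
      exact sub_left_injective h1
  have hfEs : ∀ (s : X) (m : ℕ), ¬ p ∣ m → s ^ m = 1 → fE s = fU s := by
    intro s m hm hs
    obtain ⟨e0, he0, hse0⟩ := exists_fix hV (W B : AddSubgroup V) hm hs v (fun i => hcos _)
    rw [hfE, hfU]
    simp only
    congr 1
    apply Nat.card_congr
    refine Equiv.subtypeEquiv (Equiv.subRight e0) ?_
    intro e
    rw [hmemE, hmemU, Equiv.subRight_apply]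
    constructor
    · rintro ⟨h1, h2⟩
      refine ⟨?_, ?_⟩
      · have := sub_mem h1 he0
        rwa [sub_sub_sub_cancel_right] at this
      · rw [smul_sub, h2, hse0]
    · rintro ⟨h1, h2⟩
      refine ⟨?_, ?_⟩
      · have := add_mem h1 he0
        rwa [sub_add_sub_cancel] at this
      · rw [smul_sub, hse0] at h2
        exact sub_left_injective h2
  have hfUb : ∀ (b s : X), b ∈ B → fU (b * s) = fU s := by
    intro b s hb
    rw [hfU]
    simp only
    congr 1
    apply Nat.card_congr
    apply Equiv.subtypeEquivRight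
    intro e
    rw [hmemU]
    apply and_congr_right
    intro he
    rw [h.cen b hb s, mul_smul, he b hb]
  have hfEb : ∀ (b s : X) (m : ℕ), b ∈ B → ¬ p ∣ m → s ^ m = 1 → fE (b * s) = if b • v = v then fE s else 0 := by
    intro b s m hb hm hs
    rw [hfE]
    simp only
    split_ifs with hbv
    · congr 1
      apply Nat.card_congr
      apply Equiv.subtypeEquivRight
      intro e
      rw [hmemE]
      apply and_congr_right
      intro he
      constructor
      · intro h1; exact (hfix b s m hb hm hs e h1).1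
      · intro h1
        rw [mul_smul, h1]
        exact (hbE b hb e he).2 hbv
    · rw [Nat.cast_eq_zero]
      rw [Nat.card_eq_zero]
      left
      constructor
      rintro ⟨e, he, h1⟩
      rw [hmemE] at he
      exact hbv ((hbE b hb e he).1 (hfix b s m hb hm hs e h1).2)
  set c : ℤ := ((Finset.univ.filter (fun b : B => (b : X) • v = v)).card : ℤ) with hc
  have hrel : ∀ g : X, F g ≠ 0 → (Fintype.card B : ℤ) * ∑ b : B, fE (b * g) = c * ∑ b : B, fU (b * g) := by
    intro g hg
    obtain ⟨x, s, hgx, ⟨k, hx⟩, ⟨m, hm, hs⟩, hxg, hsg⟩ := exists_dec p g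
    have hxB : x ∈ B := h.part_mem Q1 hx hxg hg
    have e1 : ∑ b : B, fE (b * g) = ∑ b : B, fE (b * s) := by
      rw [hgx]
      refine Fintype.sum_equiv (Equiv.mulRight (⟨x, hxB⟩ : B)) _ _ ?_
      intro b
      rw [Equiv.coe_mulRight, Subgroup.coe_mul, mul_assoc]
    have e2 : ∑ b : B, fU (b * g) = ∑ b : B, fU s := by
      apply Finset.sum_congr rfl
      intro b _
      rw [hfUb b g b.2, hgx, hfUb x s hxB]
    have e3 : ∑ b : B, fE (b * s) = c * fU s := by
      rw [Finset.sum_congr rfl (fun (b : B) _ => hfEb b s m b.2 hm hs)]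
      rw [← Finset.sum_filter, Finset.sum_const, nsmul_eq_mul, hfEs s m hm hs]
    rw [e1, e2, e3, Finset.sum_const, nsmul_eq_mul, Finset.card_univ]
    ring
  have hFb : ∀ (b g : X), b ∈ B → F (b * g) = F g := fun b g hb => h.Fm_mul Q1 hb g
  have shift : ∀ f : X → ℤ, (Fintype.card B : ℤ) * ∑ g : X, f g * F g = ∑ g : X, (∑ b : B, f (b * g)) * F g := by
    intro f
    have e1 : ∀ b : B, ∑ g : X, f g * F g = ∑ g : X, f (b * g) * F g := by
      intro b
      have := Fintype.sum_equiv (Equiv.mulLeft (b : X)) (fun g => f (b * g) * F (b * g)) (fun g => f g * F g)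
        (fun g => rfl)
      rw [← this]
      apply Finset.sum_congr rfl
      intro g _
      rw [hFb b g b.2]
    have e2 : (Fintype.card B : ℤ) * ∑ g : X, f g * F g = ∑ b : B, ∑ g : X, f (b * g) * F g := by
      rw [← Finset.sum_congr rfl (fun b _ => e1 b), Finset.sum_const, nsmul_eq_mul, Finset.card_univ]
    rw [e2, Finset.sum_comm]
    apply Finset.sum_congr rfl
    intro g _
    rw [Finset.sum_mul]
  have hcpos : c ≠ 0 := by
    rw [hc]
    have : (1 : B) ∈ Finset.univ.filter (fun b : B => (b : X) • v = v) := by simp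
    exact_mod_cast (Finset.card_pos.2 ⟨_, this⟩).ne'
  have hKpos : (Fintype.card B : ℤ) ≠ 0 := by exact_mod_cast Fintype.card_ne_zero
  have key : c * ((Fintype.card B : ℤ) * ∑ g : X, fU g * F g) = 0 := by
    rw [shift, Finset.mul_sum]
    have : ∀ g : X, c * ((∑ b : B, fU (b * g)) * F g) = (Fintype.card B : ℤ) * ((∑ b : B, fE (b * g)) * F g) := by
      intro g
      by_cases hg : F g = 0
      · rw [hg]; ring
      · rw [← mul_assoc, ← hrel g hg, mul_assoc]
    rw [Finset.sum_congr rfl (fun g _ => this g), ← Finset.mul_sum, ← shift, s1]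
    ring
  have s3 : ∑ g : X, fU g * F g = 0 := by
    rcases mul_eq_zero.1 key with h1 | h1
    · exact (hcpos h1).elim
    · rcases mul_eq_zero.1 h1 with h2 | h2
      · exact (hKpos h2).elim
      · exact h2
  rw [s2] at s3
  have hz := (Finset.sum_eq_zero_iff_of_nonneg (fun e _ => Tm_nonneg e)).1 s3
  -- w lies in some W Q
  obtain ⟨Q, hQ⟩ := h.cov w hw
  obtain ⟨g, hg, hg2⟩ := of_Tm_zero w (hz w ((hmemU w).2 hw)) ⟨W (Q : Subgroup X), W_orbit Q1 Q⟩
    ⟨W (Q1 : Subgroup X), W_orbit Q1 Q1⟩
  have h1 : g • (W (Q : Subgroup X) : AddSubgroup V) = W (Q1 : Subgroup X) := congrArg Subtype.val hg2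
  apply hw1
  rw [← h1, AddSubgroup.mem_pointwise_smul_iff_inv_smul_mem]
  have h3 := congrArg (fun t => g⁻¹ • t) hg
  simp only [inv_smul_smul] at h3
  rw [← h3]
  exact hQ

end Cfsg.Agent.H362.HT
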