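import Cfsg.Agent.H362.HT.Over

/-! S4933: over a character of the principal block of any subgroup there is a member of the principal block, with a
bound for the `p`-part of the degree (helper362). -/

set_option autoImplicit false
set_option linter.style.haveILetI false
set_option maxRecDepth 2000

open Cfsg Subgroup
open Cfsg.Agent.Blocks.Basic Cfsg.Agent.Blocks.Local Cfsg.Agent.Blocks.Blau
open scoped ComplexConjugate

namespace Cfsg.Agent.H362.HT

open Cfsg.Agent.H316.HT

universe u

variable {G : Type u} [Group G]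

/-- over a character of the principal block of ANY subgroup -/
theorem exists_over_any [Finite G] {p : ℕ} [hp : Fact p.Prime] {M : Ideal AlgInt} (hM : IsPModular p M)
    (H : Subgroup G) (ξ : IrrCharacter H) (hξ : ξ ∈ principalBlock M H) :
    ∃ χ : IrrCharacter G, χ ∈ principalBlock M G ∧ vd p (χ : G → ℂ) ≤ vd p (ξ : H → ℂ) + H.index.factorization p ∧
      ∀ [Fintype H], classInner (fun h : H => (χ : G → ℂ) h) (ξ : H → ℂ) ≠ 0 := by
  classical
  haveI := Fintype.ofFinite G
  haveI iH : Fintype H := Fintype.ofFinite H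
  haveI := Characters.Core.finite_irr (G := G)
  haveI := Fintype.ofFinite (IrrCharacter G)
  have hMp : M.IsPrime := isPrime_of_isPModular hM
  have hinst : ∀ (i : Fintype H) (χ : G → ℂ), @classInner H _ i (fun h : H => χ h) (ξ : H → ℂ) =
      @classInner H _ iH (fun h : H => χ h) (ξ : H → ℂ) := by
    intro i χ
    rw [Subsingleton.elim i iH]
  by_contra hcon
  push Not at hcon
  have hbig : ∀ χ : IrrCharacter G, χ ∈ principalBlock M G →
      classInner (fun h : H => (χ : G → ℂ) h) (ξ : H → ℂ) ≠ 0 → p ^ (vd p (ξ : H → ℂ) + H.index.factorization p + 1) ∣ charDegree (χ : G → ℂ) := by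
    intro χ hχ hne
    have h1 : ¬ vd p (χ : G → ℂ) ≤ vd p (ξ : H → ℂ) + H.index.factorization p := by
      intro h
      obtain ⟨i, hi⟩ := hcon χ hχ h
      rw [hinst] at hi
      exact hne hi
    have h2 : vd p (ξ : H → ℂ) + H.index.factorization p + 1 ≤ (charDegree (χ : G → ℂ)).factorization p := by
      have : vd p (ξ : H → ℂ) + H.index.factorization p < vd p (χ : G → ℂ) := not_le.1 h1
      exact this
    exact (pow_dvd_pow p h2).trans (Nat.ordProj_dvd _ _)
  -- the sum for the characters outside the principal block vanishes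
  have hzero : ∀ χ : IrrCharacter G, χ ∉ principalBlock M G → ∑ k : G with ¬ p ∣ orderOf k, (χ : G → ℂ) k = 0 := by
    intro χ hχ
    have hB : IsPBlock M (principalBlock M G) := ⟨⟨fun _ => 1, isIrrCharacter_one⟩, rfl⟩
    have h1 : (⟨fun _ => 1, isIrrCharacter_one⟩ : IrrCharacter G) ∈ principalBlock M G := by
      intro g
      rw [sub_self]
      exact memLocalIdeal_zero
    have h2 := Cfsg.Agent.H646.RegInner.classInner_pRegularPart_eq_zero hM hB h1 hχ
    rw [Characters.Core.classInner_def, mul_eq_zero] at h2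
    rcases h2 with h2 | h2
    · exact absurd (inv_eq_zero.1 h2) (by exact_mod_cast Nat.card_pos.ne')
    · have h3 := congrArg conj h2
      rw [map_sum, map_zero] at h3
      rw [← h3, Finset.sum_filter]
      refine Finset.sum_congr rfl fun g _ => ?_
      rw [Cfsg.Agent.H646.RegInner.pRegularPart_apply]
      by_cases h : p ∣ orderOf g
      · rw [if_pos h, if_neg (not_not.2 h), zero_mul, map_zero]
      · rw [if_neg h, if_pos h, one_mul, Complex.conj_conj]
  set e := vd p (ξ : H → ℂ) with he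
  set k0 := H.index.factorization p with hk0
  have hmain := sum_reg (p := p) H ξ
  -- the right hand side is p ^ (e+1) times a local integer
  have hR : ∃ z : ℂ, MemLocalRing M z ∧ ∑ χ : IrrCharacter G, classInner (fun h : H => (χ : G → ℂ) h) (ξ : H → ℂ) *
        ∑ k : G with ¬ p ∣ orderOf k, (χ : G → ℂ) k = ((p ^ (e + k0 + 1) : ℕ) : ℂ) * z := by
    have h1 : ∀ χ : IrrCharacter G, ∃ z : ℂ, MemLocalRing M z ∧
        classInner (fun h : H => (χ : G → ℂ) h) (ξ : H → ℂ) * ∑ k : G with ¬ p ∣ orderOf k, (χ : G → ℂ) k =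
          ((p ^ (e + k0 + 1) : ℕ) : ℂ) * z := by
      intro χ
      by_cases hχ : χ ∈ principalBlock M G
      · by_cases hne : classInner (fun h : H => (χ : G → ℂ) h) (ξ : H → ℂ) = 0
        · exact ⟨0, memLocalRing_zero, by rw [hne]; ring⟩
        · obtain ⟨q, hq⟩ := hbig χ hχ hne
          obtain ⟨n, hn⟩ := Characters.Core.classInner_isNat
            (Characters.Core.isCharacter_comp H.subtype (Characters.Core.isIrr_isCharacter χ.2))
            (Characters.Core.isIrr_isCharacter ξ.2)
          have hn' : classInner (fun h : H => (χ : G → ℂ) h) (ξ : H → ℂ) = n := hn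
          have h2 := ratio hM hχ
          have h3 : MemLocalRing M ((∑ k : G with ¬ p ∣ orderOf k, (χ : G → ℂ) k) / (χ : G → ℂ) 1) :=
            (memLocalRing_iff_of_sub h2).2 (memLocalRing_natCast _)
          refine ⟨(n : ℂ) * ((q : ℂ) * ((∑ k : G with ¬ p ∣ orderOf k, (χ : G → ℂ) k) / (χ : G → ℂ) 1)),
            memLocalRing_mul (memLocalRing_natCast _) (memLocalRing_mul (memLocalRing_natCast _) h3), ?_⟩
          rw [hn']
          have h4 : (χ : G → ℂ) 1 = ((p ^ (e + k0 + 1) : ℕ) : ℂ) * (q : ℂ) := by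
            rw [irr_one_eq_charDegree χ.2, hq]; push_cast; ring
          have h5 : (χ : G → ℂ) 1 ≠ 0 := irr_one_ne_zero χ.2
          have h6 : (∑ k : G with ¬ p ∣ orderOf k, (χ : G → ℂ) k) = ((p ^ (e + k0 + 1) : ℕ) : ℂ) * (q : ℂ) *
              ((∑ k : G with ¬ p ∣ orderOf k, (χ : G → ℂ) k) / (χ : G → ℂ) 1) := by
            rw [← h4]; field_simp
          calc (n : ℂ) * ∑ k : G with ¬ p ∣ orderOf k, (χ : G → ℂ) k
              = (n : ℂ) * (((p ^ (e + k0 + 1) : ℕ) : ℂ) * (q : ℂ) *
              ((∑ k : G with ¬ p ∣ orderOf k, (χ : G → ℂ) k) / (χ : G → ℂ) 1)) := by rw [← h6]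
            _ = _ := by ring
      · exact ⟨0, memLocalRing_zero, by rw [hzero χ hχ]; ring⟩
    choose f hf1 hf2 using h1
    refine ⟨∑ χ, f χ, memLocalRing_sum (fun χ _ => hf1 χ), ?_⟩
    rw [Finset.sum_congr rfl (fun χ _ => hf2 χ), ← Finset.mul_sum]
  obtain ⟨z, hz, hz2⟩ := hR
  -- the left hand side
  have hL := ratio hM hξ
  set t : ℂ := (∑ k : H with ¬ p ∣ orderOf k, (ξ : H → ℂ) k) / (ξ : H → ℂ) 1 with ht
  have htR : MemLocalRing M t := (memLocalRing_iff_of_sub hL).2 (memLocalRing_natCast _)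
  have htn : ¬ MemLocalIdeal M t := by
    intro h
    have := (memLocalIdeal_iff_of_sub hL).1 h
    rw [memLocalIdeal_natCast_iff hM] at this
    exact Cfsg.Agent.Blocks.RegularCount.not_dvd_card_regular this
  set n' := charDegree (ξ : H → ℂ) / p ^ e with hn'
  have hdeg : charDegree (ξ : H → ℂ) = p ^ e * n' := (Nat.ordProj_mul_ordCompl_eq_self _ _).symm
  have hn'p : ¬ p ∣ n' := Nat.not_dvd_ordCompl hp.out (charDegree_pos ξ.2).ne'
  have hξ1 : (ξ : H → ℂ) 1 ≠ 0 := irr_one_ne_zero ξ.2
  have hSt : ∑ k : H with ¬ p ∣ orderOf k, (ξ : H → ℂ) k = ((p ^ e : ℕ) : ℂ) * (n' : ℂ) * t := by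
    have h1 : (ξ : H → ℂ) 1 = ((p ^ e : ℕ) : ℂ) * (n' : ℂ) := by
      rw [irr_one_eq_charDegree ξ.2, hdeg]; push_cast; ring
    rw [ht, ← h1]; field_simp
  set i' := H.index / p ^ k0 with hi'
  have hidx : H.index = p ^ k0 * i' := (Nat.ordProj_mul_ordCompl_eq_self _ _).symm
  have hip : ¬ p ∣ i' := Nat.not_dvd_ordCompl hp.out (Subgroup.index_ne_zero_of_finite)
  rw [hz2, hSt, hidx] at hmain
  have hpe : ((p ^ (e + k0) : ℕ) : ℂ) ≠ 0 := by exact_mod_cast (pow_pos hp.out.pos _).ne'
  have h5 : (i' : ℂ) * ((n' : ℂ) * t) = (p : ℂ) * z := by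
    have : ((p ^ (e + k0) : ℕ) : ℂ) * ((i' : ℂ) * ((n' : ℂ) * t)) = ((p ^ (e + k0) : ℕ) : ℂ) * ((p : ℂ) * z) := by
      rw [pow_succ] at hmain
      rw [pow_add] at hmain ⊢
      push_cast at hmain ⊢
      linear_combination hmain
    exact mul_left_cancel₀ hpe this
  have h6 : MemLocalIdeal M ((i' : ℂ) * ((n' : ℂ) * t)) := by
    rw [h5]; exact memLocalIdeal_mul_right (memLocalIdeal_p hM) hz
  rcases memLocalIdeal_or_of_mul (memLocalRing_natCast _) (memLocalRing_mul (memLocalRing_natCast _) htR) h6 with h7 | h7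
  · exact hip ((memLocalIdeal_natCast_iff hM _).1 h7)
  · rcases memLocalIdeal_or_of_mul (memLocalRing_natCast _) htR h7 with h8 | h8
    · exact hn'p ((memLocalIdeal_natCast_iff hM _).1 h8)
    · exact htn h8

end Cfsg.Agent.H362.HT
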