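import Cfsg.Agent.H362.HT.Sum

set_option autoImplicit false
set_option maxHeartbeats 1000000
set_option linter.unusedSectionVars false
set_option linter.style.haveILetI false

namespace Cfsg.Agent.H362.HT

open MulAction Pointwise

variable {X V : Type*} [Group X] [Finite X] [AddCommGroup V] [Finite V] [DistribMulAction X V] {p : ℕ}
  [hp : Fact p.Prime] {B : Subgroup X}

theorem Cfg.cen_smul_W (h : Cfg p V B) {b : X} (hb : b ∈ B) (Q : Sylow p X) :
    b • (W (Q : Subgroup X) : AddSubgroup V) = W (Q : Subgroup X) := by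
  have key : ∀ b ∈ B, ∀ u ∈ (W (Q : Subgroup X) : AddSubgroup V), b • u ∈ (W (Q : Subgroup X) : AddSubgroup V) := by
    intro b hb u hu x hx
    rw [smul_smul, ← h.cen b hb x, mul_smul, hu x hx]
  ext u
  rw [AddSubgroup.mem_pointwise_smul_iff_inv_smul_mem]
  constructor
  · intro hu
    have := key b hb _ hu
    rwa [smul_inv_smul] at this
  · intro hu
    exact key b⁻¹ (inv_mem hb) u hu

theorem orbit_W (Q1 : Sylow p X) (w : orbit X (W (Q1 : Subgroup X) : AddSubgroup V)) :
    ∃ Q : Sylow p X, (w : AddSubgroup V) = W (Q : Subgroup X) := by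
  obtain ⟨_, g, rfl⟩ := w
  exact ⟨g • Q1, smul_W Q1 g⟩

theorem W_orbit (Q1 Q : Sylow p X) : (W (Q : Subgroup X) : AddSubgroup V) ∈ orbit X (W (Q1 : Subgroup X) : AddSubgroup V) := by
  obtain ⟨g, rfl⟩ := MulAction.exists_smul_eq X Q1 Q
  exact ⟨g, smul_W Q1 g⟩

theorem Cfg.Fm_mul (h : Cfg p V B) (Q1 : Sylow p X) {b : X} (hb : b ∈ B) (g : X) :
    Fm (orbit X (W (Q1 : Subgroup X) : AddSubgroup V)) (b * g) =
      Fm (orbit X (W (Q1 : Subgroup X) : AddSubgroup V)) g := by
  unfold Fm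
  congr 2
  apply Nat.card_congr
  apply Equiv.subtypeEquivRight
  intro w
  rw [mul_smul]
  have : b • (g • w) = g • w := by
    obtain ⟨Q, hQ⟩ := orbit_W Q1 (g • w)
    apply Subtype.ext
    show b • ((g • w : orbit X (W (Q1 : Subgroup X) : AddSubgroup V)) : AddSubgroup V) = _
    rw [hQ]
    exact h.cen_smul_W hb Q
  rw [this]

/-- the `p`-part of an element with a number of fixed points different from one lies in `B` -/
theorem Cfg.part_mem (h : Cfg p V B) (Q1 : Sylow p X) {g x : X} {k : ℕ} (hx : x ^ p ^ k = 1)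
    (hxg : x ∈ Subgroup.zpowers g) (hF : Fm (orbit X (W (Q1 : Subgroup X) : AddSubgroup V)) g ≠ 0) : x ∈ B := by
  by_contra hxB
  apply hF
  obtain ⟨Q0, hxQ0, hQ0⟩ := h.eq_of_fix hx hxB
  obtain ⟨i, hi⟩ := hxg
  have hi : g ^ i = x := hi
  have hx0 : x • (W (Q0 : Subgroup X) : AddSubgroup V) = W (Q0 : Subgroup X) := by
    ext u
    rw [AddSubgroup.mem_pointwise_smul_iff_inv_smul_mem]
    constructor
    · intro hu
      have h1 := hu x hxQ0
      rw [smul_inv_smul] at h1
      rw [h1]; exact hu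
    · intro hu
      rw [hu x⁻¹ (inv_mem hxQ0)]; exact hu
  have hg0 : g • (W (Q0 : Subgroup X) : AddSubgroup V) = W (Q0 : Subgroup X) := by
    have h1 : x • (W ((g • Q0 : Sylow p X) : Subgroup X) : AddSubgroup V) = W ((g • Q0 : Sylow p X) : Subgroup X) := by
      rw [← smul_W, smul_smul]
      have : x * g = g * x := by
        rw [← hi, (Commute.zpow_self g i).eq]
      rw [this, mul_smul, hx0]
    have h2 := hQ0 (g • Q0) h1
    rw [smul_W, h2]
  unfold Fm
  have hu : Nat.card {w : orbit X (W (Q1 : Subgroup X) : AddSubgroup V) // g • w = w} = 1 := by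
    rw [Nat.card_eq_one_iff_unique]
    refine ⟨⟨?_⟩, ⟨⟨⟨W (Q0 : Subgroup X), W_orbit Q1 Q0⟩, Subtype.ext hg0⟩⟩⟩
    have key : ∀ w : orbit X (W (Q1 : Subgroup X) : AddSubgroup V), g • w = w → (w : AddSubgroup V) = W (Q0 : Subgroup X) := by
      intro w hw
      obtain ⟨Q, hQ⟩ := orbit_W Q1 w
      rw [hQ]
      apply hQ0
      have h3 : g ∈ stabilizer X w := hw
      have h4 : x ∈ stabilizer X w := by
        rw [← hi]; exact Subgroup.zpow_mem _ h3 i
      have h5 : x • (w : AddSubgroup V) = w := congrArg Subtype.val (show x • w = w from h4)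
      rwa [hQ] at h5
    rintro ⟨a, ha⟩ ⟨b, hb⟩
    apply Subtype.ext
    apply Subtype.ext
    exact (key a ha).trans (key b hb).symm
  rw [hu]; norm_num

/-- a fixed point of a `p'`-element in a coset -/
theorem exists_fix {n : ℕ} (hV : Nat.card V = p ^ n) (U : AddSubgroup V) {s : X} {m : ℕ} (hm : ¬ p ∣ m)
    (hs : s ^ m = 1) (v : V) (hU : ∀ i : ℕ, s ^ i • v - v ∈ U) : ∃ e : V, e - v ∈ U ∧ s • e = e := by
  have hc : IsCoprime ((m : ℕ) : ℤ) (((p ^ n : ℕ)) : ℤ) :=
    Nat.isCoprime_iff_coprime.2 (Nat.Coprime.pow_left n ((Nat.Prime.coprime_iff_not_dvd hp.out).2 hm)).symm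
  obtain ⟨a, b, hab⟩ := hc
  refine ⟨a • ∑ i ∈ Finset.range m, s ^ i • v, ?_, ?_⟩
  · have h1 : a • ∑ i ∈ Finset.range m, s ^ i • v - v = a • ∑ i ∈ Finset.range m, (s ^ i • v - v) := by
      rw [Finset.sum_sub_distrib, Finset.sum_const, Finset.card_range, smul_sub]
      congr 1
      have h2 : ((p ^ n : ℕ) : ℤ) • v = 0 := by
        rw [natCast_zsmul, ← hV]
        exact card_nsmul_eq_zero'
      have h3 : (a * (m : ℤ)) • v = v - b • (((p ^ n : ℕ) : ℤ) • v) := by
        rw [smul_smul, ← one_zsmul v, smul_smul, smul_smul, ← sub_smul]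
        congr 1
        linarith
      rw [h2, smul_zero, sub_zero, mul_smul, natCast_zsmul] at h3
      exact h3.symm
    rw [h1]
    apply AddSubgroup.zsmul_mem
    apply AddSubgroup.sum_mem
    intro i _
    exact hU i
  · rw [smul_comm, Finset.smul_sum]
    congr 1
    have h4 : ∀ i, s • (s ^ i • v) = s ^ (i + 1) • v := by
      intro i; rw [smul_smul, pow_succ']
    simp only [h4]
    have h5 := Finset.sum_range_succ (fun i => s ^ i • v) m
    have h6 := Finset.sum_range_succ' (fun i => s ^ i • v) m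
    rw [h5] at h6
    rw [hs] at h6
    simp only [pow_zero] at h6
    exact (add_right_cancel h6).symm

end Cfsg.Agent.H362.HT
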