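import Cfsg.Agent.H362.HT.Main

set_option autoImplicit false
set_option maxHeartbeats 1000000
set_option linter.unusedSectionVars false
set_option linter.style.haveILetI false

namespace Cfsg.Agent.H362.HT

open MulAction Pointwise

/-- THE THEOREM: abelian Sylow `p`-subgroups, faithful on the abelian `p`-group `V`, every vector fixed by a Sylow
`p`-subgroup, all nontrivial orbits of Sylow `p`-subgroups have stabilizers of the same order `c`: then `c = 1`. -/
theorem regular {H V : Type*} [Group H] [Finite H] [AddCommGroup V] [Finite V] [DistribMulAction H V] (p : ℕ)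
    [hp : Fact p.Prime] {n : ℕ} (hV : Nat.card V = p ^ n)
    (hab : ∀ (Q : Sylow p H), ∀ x ∈ (Q : Subgroup H), ∀ y ∈ (Q : Subgroup H), x * y = y * x)
    (hfaith : ∀ x : H, (∀ v : V, x • v = v) → x = 1)
    (hfix : ∀ v : V, ∃ Q : Sylow p H, ∀ x ∈ (Q : Subgroup H), x • v = v) (c : ℕ)
    (horb : ∀ (Q : Sylow p H) (v : V), (∃ x ∈ (Q : Subgroup H), x • v ≠ v) →
      Nat.card ↥((Q : Subgroup H) ⊓ stabilizer H v) = c)
    (Q1 : Sylow p H) (w : V) (hw : ∃ x ∈ (Q1 : Subgroup H), x • w ≠ w) : c = 1 := by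
  classical
  by_contra hc1
  set B0 : Subgroup H := (Q1 : Subgroup H) ⊓ stabilizer H w with hB0
  have hB0c : Nat.card B0 = c := horb Q1 w hw
  set X : Subgroup H := Subgroup.closure (⋃ Q : {Q : Sylow p H // B0 ≤ (Q : Subgroup H)}, ((Q : Sylow p H) : Set H)) with hX
  have hQX : ∀ Q : Sylow p H, B0 ≤ (Q : Subgroup H) → (Q : Subgroup H) ≤ X := by
    intro Q hQ x hx
    apply Subgroup.subset_closure
    rw [Set.mem_iUnion]
    exact ⟨⟨Q, hQ⟩, hx⟩
  have hQ1X : (Q1 : Subgroup H) ≤ X := hQX Q1 inf_le_left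
  have hB0X : B0 ≤ X := le_trans inf_le_left hQ1X
  have hcen : ∀ b ∈ B0, ∀ g ∈ X, b * g = g * b := by
    have h1 : X ≤ Subgroup.centralizer (B0 : Set H) := by
      rw [hX, Subgroup.closure_le]
      intro x hx
      rw [Set.mem_iUnion] at hx
      obtain ⟨⟨Q, hQ⟩, hx⟩ := hx
      rw [SetLike.mem_coe, Subgroup.mem_centralizer_iff]
      intro b hb
      exact hab Q b (hQ hb) x hx
    intro b hb g hg
    exact Subgroup.mem_centralizer_iff.1 (h1 hg) b hb
  have hS : ∀ R : Sylow p X, ∃ Q : Sylow p H, (Q : Subgroup H) = (R : Subgroup X).map X.subtype := by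
    intro R
    obtain ⟨g, hg⟩ := MulAction.exists_smul_eq X (Q1.subtype hQ1X) R
    refine ⟨(g : H) • Q1, ?_⟩
    ext x
    rw [mem_smul]
    constructor
    · intro hx
      have hxX : x ∈ X := by
        have := mul_mem (mul_mem g.2 (hQ1X hx)) (inv_mem g.2)
        simpa [mul_assoc] using this
      refine ⟨⟨x, hxX⟩, ?_, rfl⟩
      rw [← hg]
      show (⟨x, hxX⟩ : X) ∈ ((g • Q1.subtype hQ1X : Sylow p X) : Subgroup X)
      rw [mem_smul]
      exact hx
    · rintro ⟨y, hy, rfl⟩
      rw [← hg] at hy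
      have hy' : y ∈ ((g • Q1.subtype hQ1X : Sylow p X) : Subgroup X) := hy
      rw [mem_smul] at hy'
      exact hy'
  set B : Subgroup X := B0.subgroupOf X with hB
  have hBc : Nat.card B = c := by
    rw [← hB0c]
    exact Nat.card_congr (Subgroup.subgroupOfEquivOfLe hB0X).toEquiv
  have hB0p : IsPGroup p B0 := Q1.isPGroup'.to_le inf_le_left
  have hcfg : Cfg p V B := by
    refine ⟨?_, ?_, ?_, ?_, ?_⟩
    · intro b hb g
      exact Subtype.ext (hcen b hb g g.2)
    · exact hB0p.comap_subtype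
    · intro R v hv
      obtain ⟨Q, hQ⟩ := hS R
      have h1 : ∃ x ∈ (Q : Subgroup H), x • v ≠ v := by
        obtain ⟨x, hx, hxv⟩ := hv
        exact ⟨x, by rw [hQ]; exact ⟨x, hx, rfl⟩, hxv⟩
      have h2 := horb Q v h1
      have h3 : ((R : Subgroup X) ⊓ stabilizer X v).map X.subtype = (Q : Subgroup H) ⊓ stabilizer H v := by
        ext x
        constructor
        · rintro ⟨y, ⟨hy1, hy2⟩, rfl⟩
          exact ⟨by rw [hQ]; exact ⟨y, hy1, rfl⟩, hy2⟩
        · rintro ⟨hx1, hx2⟩
          rw [hQ] at hx1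
          obtain ⟨y, hy, rfl⟩ := hx1
          exact ⟨y, ⟨hy, hx2⟩, rfl⟩
      rw [hBc, ← h2, ← h3]
      exact Nat.card_congr (Subgroup.equivMapOfInjective _ _ X.subtype_injective).toEquiv
    · intro u hu
      obtain ⟨Q, hQ⟩ := hfix u
      set S := stabilizer H u with hSdef
      have hQS : (Q : Subgroup H) ≤ S := fun x hx => hQ x hx
      have hBS : B0 ≤ S := fun x hx => hu ⟨x, hB0X hx⟩ hx
      obtain ⟨T, hT⟩ := (show IsPGroup p ↥(B0.subgroupOf S) from hB0p.comap_subtype).exists_le_sylow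
      obtain ⟨g, hg⟩ := MulAction.exists_smul_eq S (Q.subtype hQS) T
      have hBle : B0 ≤ (((g : H) • Q : Sylow p H) : Subgroup H) := by
        intro b hb
        rw [mem_smul]
        have h1 : (⟨b, hBS hb⟩ : S) ∈ (T : Subgroup S) := hT hb
        rw [← hg] at h1
        have h1' : (⟨b, hBS hb⟩ : S) ∈ ((g • Q.subtype hQS : Sylow p S) : Subgroup S) := h1
        rw [mem_smul] at h1'
        exact h1'
      refine ⟨((g : H) • Q).subtype (hQX _ hBle), ?_⟩
      intro x hx
      have hx' : (x : H) ∈ (((g : H) • Q : Sylow p H) : Subgroup H) := hx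
      rw [mem_smul] at hx'
      have h2 := hQ _ hx'
      have h3 : (g : H) • u = u := g.2
      have h4 : ((g : H)⁻¹ * x * g) • u = u := h2
      rw [mul_smul, h3, mul_smul] at h4
      have h5 := congrArg (fun t => (g : H) • t) h4
      simp only [smul_inv_smul, h3] at h5
      exact h5
    · intro u hu g
      have h1 : X ≤ stabilizer H u := by
        rw [hX, Subgroup.closure_le]
        intro x hx
        rw [Set.mem_iUnion] at hx
        obtain ⟨⟨Q, hQ⟩, hx⟩ := hx
        exact hu (Q.subtype (hQX Q hQ)) ⟨x, hQX Q hQ hx⟩ hx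
      exact h1 g.2
  have hBne : ∃ x ∈ B, ∃ v : V, x • v ≠ v := by
    have h1 : B0 ≠ ⊥ := by
      intro h
      apply hc1
      rw [← hB0c, h, Subgroup.card_bot]
    obtain ⟨⟨b, hb⟩, hb1⟩ := Subgroup.ne_bot_iff_exists_ne_one.1 h1
    refine ⟨⟨b, hB0X hb⟩, hb, ?_⟩
    by_contra hall
    push Not at hall
    apply hb1
    apply Subtype.ext
    exact hfaith b hall
  refine hcfg.absurd hV hBne (Q1.subtype hQ1X) (w := w) ?_ ?_
  · intro x hx
    exact hx.2
  · intro h
    obtain ⟨x, hx, hxw⟩ := hw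
    exact hxw (h ⟨x, hQ1X hx⟩ hx)

end Cfsg.Agent.H362.HT
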