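import Cfsg.Agent.H362.HT.Fix

set_option autoImplicit false
set_option maxHeartbeats 1000000
set_option linter.unusedSectionVars false
set_option linter.style.haveILetI false

namespace Cfsg.Agent.H362.HT

open MulAction Pointwise

variable {X V : Type*} [Group X] [Finite X] [AddCommGroup V] [Finite V] [DistribMulAction X V] {p : ℕ}
  [hp : Fact p.Prime] {B : Subgroup X}

section burn
variable {Ω : Type*} [MulAction X Ω] [Finite Ω]

/-- number of fixed points minus one -/
noncomputable def Fm (Ω : Type*) [MulAction X Ω] [Finite Ω] (g : X) : ℤ := (Nat.card {w : Ω // g • w = w} : ℤ) - 1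

open Classical in
/-- Burnside sum over the stabilizer of `v` -/
noncomputable def Tm (Ω : Type*) [MulAction X Ω] [Finite Ω] (v : V) : ℤ :=
  ∑ᶠ g : X, if g • v = v then Fm Ω g else 0

theorem Tm_eq (v : V) : Tm (X := X) Ω v =
    ((Nat.card (orbitRel.Quotient (stabilizer X v) Ω) : ℤ) - 1) * Nat.card (stabilizer X v) := by
  classical
  haveI := Fintype.ofFinite X
  haveI := Fintype.ofFinite Ω
  haveI : Fintype (stabilizer X v) := Fintype.ofFinite _
  haveI : Fintype (orbitRel.Quotient (stabilizer X v) Ω) := Fintype.ofFinite _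
  have h := MulAction.sum_card_fixedBy_eq_card_orbits_mul_card_group (stabilizer X v) Ω
  unfold Tm
  rw [finsum_eq_sum_of_fintype, ← Finset.sum_filter]
  have h2 : ∑ g ∈ Finset.univ.filter (fun g : X => g • v = v), Fm Ω g =
      ∑ a : stabilizer X v, Fm Ω (a : X) := by
    apply Finset.sum_subtype (Finset.univ.filter (fun g : X => g • v = v))
    intro g
    simp [mem_stabilizer_iff]
  rw [h2]
  unfold Fm
  rw [Finset.sum_sub_distrib]
  have h3 : ∀ a : stabilizer X v, Nat.card {w : Ω // (a : X) • w = w} = Fintype.card (fixedBy Ω a) := by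
    intro a
    rw [← Nat.card_eq_fintype_card]
    rfl
  simp only [h3]
  rw [← Nat.cast_sum, h]
  simp only [Finset.sum_const, Finset.card_univ, Nat.card_eq_fintype_card]
  push_cast
  rw [nsmul_eq_mul, mul_one, sub_mul, one_mul]

theorem Tm_nonneg [Nonempty Ω] (v : V) : 0 ≤ Tm (X := X) Ω v := by
  rw [Tm_eq]
  have h1 : 0 < Nat.card (orbitRel.Quotient (stabilizer X v) Ω) := by
    haveI : Nonempty (orbitRel.Quotient (stabilizer X v) Ω) := ⟨Quotient.mk'' (Classical.arbitrary Ω)⟩
    exact Nat.card_pos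
  have h2 : (1 : ℤ) ≤ Nat.card (orbitRel.Quotient (stabilizer X v) Ω) := by exact_mod_cast h1
  apply mul_nonneg (by linarith) (by positivity)

theorem Tm_zero_of [Nonempty Ω] (v : V) (h : ∀ w w' : Ω, ∃ g : X, g • v = v ∧ g • w = w') : Tm (X := X) Ω v = 0 := by
  rw [Tm_eq]
  haveI : Nonempty (orbitRel.Quotient (stabilizer X v) Ω) := ⟨Quotient.mk'' (Classical.arbitrary Ω)⟩
  haveI : Subsingleton (orbitRel.Quotient (stabilizer X v) Ω) := by
    constructor
    rintro ⟨a⟩ ⟨b⟩
    apply Quotient.sound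
    obtain ⟨g, hg, hgw⟩ := h b a
    exact ⟨⟨g, hg⟩, hgw⟩
  have : Nat.card (orbitRel.Quotient (stabilizer X v) Ω) = 1 := Nat.card_of_subsingleton (Classical.arbitrary _)
  rw [this]; simp

theorem of_Tm_zero (v : V) (h : Tm (X := X) Ω v = 0) (w w' : Ω) : ∃ g : X, g • v = v ∧ g • w = w' := by
  rw [Tm_eq] at h
  have h0 : (Nat.card (stabilizer X v) : ℤ) ≠ 0 := by
    exact_mod_cast (Nat.card_pos (α := stabilizer X v)).ne'
  have h1 : (Nat.card (orbitRel.Quotient (stabilizer X v) Ω) : ℤ) - 1 = 0 := by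
    rcases mul_eq_zero.1 h with h | h
    · exact h
    · exact absurd h h0
  have h2 : Nat.card (orbitRel.Quotient (stabilizer X v) Ω) = 1 := by
    have : (Nat.card (orbitRel.Quotient (stabilizer X v) Ω) : ℤ) = 1 := by linarith
    exact_mod_cast this
  rw [Nat.card_eq_one_iff_unique] at h2
  have h3 := h2.1.elim (Quotient.mk'' w' : orbitRel.Quotient (stabilizer X v) Ω) (Quotient.mk'' w)
  obtain ⟨g, hg⟩ := Quotient.exact h3
  exact ⟨g, g.2, hg⟩

/-- exchange of summation -/
theorem sum_Tm (E : Finset V) :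
    ∑ v ∈ E, Tm (X := X) Ω v = ∑ᶠ g : X, (Nat.card {v : V // v ∈ E ∧ g • v = v} : ℤ) * Fm Ω g := by
  classical
  haveI := Fintype.ofFinite X
  haveI := Fintype.ofFinite V
  unfold Tm
  simp only [finsum_eq_sum_of_fintype]
  rw [Finset.sum_comm]
  apply Finset.sum_congr rfl
  intro g _
  rw [← Finset.sum_filter, Finset.sum_const, nsmul_eq_mul]
  congr 2
  rw [Nat.card_eq_fintype_card, Fintype.card_subtype]
  congr 1
  ext v
  simp

end burn

end Cfsg.Agent.H362.HT
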